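import Cfsg.Agent.H593.CyclicSplit
set_option linter.all false

/-!
# The splitting, for a subset of a type
-/

set_option autoImplicit false

namespace Cfsg.Agent.H593.CyclicSplit

/-- The splitting for a finite subset `B` of a type `J`. -/
theorem split_set {J Ω Γ : Type*} (B : Set J) [Fintype B] [Fintype Ω] [DecidableEq Ω]
    [Nonempty Ω] (e : ℕ) (a : B → Ω → ℤ)
    (hgram : ∀ i j, ∑ c, a c i * a c j = (e : ℤ) + if i = j then 1 else 0)
    (hcard : Fintype.card B = e + Fintype.card Ω)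
    (hrow : ∀ c, (∀ i, a c i = 1) ∨ (∀ i, a c i = -1) ∨
        (∃ i₀, ∀ i, a c i = if i = i₀ then 1 else 0) ∨
        (∃ i₀, ∀ i, a c i = if i = i₀ then -1 else 0))
    (val : J → Γ → ℂ) (o : Γ) (d : J → ℕ) (hd : ∀ c, 0 < d c) (ho : ∀ c, val c o = d c)
    (hval : ∀ i g, ∑ c : B, (a c i : ℂ) * val c g = 0) :
    ∃ (X Y : Set J) (εX : J → ℤ) (ε : ℤ), B = X ∪ Y ∧ Disjoint X Y ∧
      Nat.card X = e ∧ Nat.card Y = Fintype.card Ω ∧
      (∀ c ∈ X, (εX c = 1 ∨ εX c = -1) ∧ ∀ h : c ∈ B, ∀ i, a ⟨c, h⟩ i = - εX c) ∧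
      (ε = 1 ∨ ε = -1) ∧ (∀ c ∈ Y, ∀ h : c ∈ B, ∑ i, a ⟨c, h⟩ i = ε) ∧
      ∀ c ∈ Y, ∀ g, (ε : ℂ) * val c g = ∑ᶠ χ ∈ X, (εX χ : ℂ) * val χ g := by
  classical
  obtain ⟨X, Y, εX, ε, hXY, hdis, hX, hY, h1, h2, h3, h4⟩ := split e a hgram hcard hrow
    (fun c g => val c g) o (fun c => d c) (fun c => hd c) (fun c => ho c) hval
  refine ⟨Subtype.val '' X, Subtype.val '' Y, fun c => if h : c ∈ B then εX ⟨c, h⟩ else 1, ε,
    ?_, ?_, ?_, ?_, ?_, h2, ?_, ?_⟩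
  · rw [← Set.image_union, hXY, Set.image_univ, Subtype.range_coe]
  · exact (Set.disjoint_image_iff Subtype.val_injective).2 hdis
  · rw [Nat.card_image_of_injective Subtype.val_injective, hX]
  · rw [Nat.card_image_of_injective Subtype.val_injective, hY]
  · rintro _ ⟨c, hc, rfl⟩
    have h5 : (fun c : J => if h : c ∈ B then εX ⟨c, h⟩ else 1) (c : J) = εX c := by
      simp
    rw [h5]
    exact ⟨(h1 c hc).1, fun h i => (h1 c hc).2 i⟩
  · rintro _ ⟨c, hc, rfl⟩ h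
    exact h3 c hc
  · rintro _ ⟨c, hc, rfl⟩ g
    rw [finsum_mem_image Subtype.val_injective.injOn]
    have h5 : ∀ χ : B, (fun c : J => if h : c ∈ B then εX ⟨c, h⟩ else 1) (χ : J) = εX χ := by
      intro χ; simp
    simp only [h5]
    exact h4 c hc g

end Cfsg.Agent.H593.CyclicSplit
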