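import Mathlib
import Cfsg.Prelude.Def_Blocks
import Cfsg.Prelude.Def_BlockRank
import Cfsg.Agent.H608.BlockRank
import Cfsg.Agent.Prune
set_option linter.all false
prune_inst 0x7f00000000000000000000000000000000000000000000000000000000000000000000000000000000000000000000000000000000000000000000000000000000000000000000000000000000000000003fffffffffffffffffffffffffffbeffbdffffffff
open scoped Cfsg.Agent.FastGrp

/-!
# Lower bound for the rank of all characters on the `p`-regular elements

`card_le_blockRank` : a family of pairwise nonconjugate `p`-regular elements has at most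
`blockRank p univ` members (this is the number `l(G)` of `p`-regular classes).
-/

set_option autoImplicit false

namespace Cfsg.Agent.H593.IMRank

open Cfsg

variable {G : Type*} [Group G] [Finite G]

/-- Pairwise nonconjugate `p`-regular elements: at most `l(G)`. -/
theorem card_le_blockRank (p : ℕ) {ι : Type*} [Fintype ι] (t : ι → G)
    (ht : ∀ i, ¬ p ∣ orderOf (t i)) (hne : ∀ i j, IsConj (t i) (t j) → i = j) :
    Fintype.card ι ≤ blockRank p (Set.univ : Set (IrrCharacter G)) := by
  classical
  have := Fintype.ofFinite G
  have hfin := Cfsg.Agent.Characters.Core.finite_irr (G := G)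
  have := Fintype.ofFinite (IrrCharacter G)
  unfold blockRank
  set V := Submodule.span ℂ ((fun χ : IrrCharacter G => pRegularPart p (χ : G → ℂ)) ''
    (Set.univ : Set (IrrCharacter G))) with hV
  -- the indicator functions of the classes of the `t i`
  let f : ι → G → ℂ := fun i g => if IsConj (t i) g then 1 else 0
  have hf : ∀ i, IsClassFunction G (f i) := by
    intro i g x
    have : IsConj (t i) (x * g * x⁻¹) ↔ IsConj (t i) g := by
      constructor
      · intro h
        exact h.trans (isConj_iff.2 ⟨x, rfl⟩ : IsConj g (x * g * x⁻¹)).symm
      · intro h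
        exact h.trans (isConj_iff.2 ⟨x, rfl⟩)
    simp only [f, this]
  have hfV : ∀ i, f i ∈ V := by
    intro i
    have h1 : f i = pRegularPart p (f i) := by
      funext g
      unfold pRegularPart
      by_cases hg : IsPRegular p g
      · rw [if_pos hg]
      · rw [if_neg hg]
        have : ¬ IsConj (t i) g := by
          intro h
          apply hg
          obtain ⟨c, rfl⟩ := isConj_iff.1 h
          show ¬ p ∣ orderOf (c * t i * c⁻¹)
          have h2 : orderOf (c * t i * c⁻¹) = orderOf (t i) := by
            have := orderOf_injective (MulAut.conj c).toMonoidHom (MulAut.conj c).injective (t i)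
            simpa using this
          rw [h2]
          exact ht i
        exact if_neg this
    have h2 := Cfsg.Agent.Characters.Core.classFunction_eq_sum (hf i)
    have h3 : f i = ∑ χ : IrrCharacter G, Cfsg.classInner (f i) (χ : G → ℂ) •
        pRegularPart p (χ : G → ℂ) := by
      have h4 : pRegularPart p (f i) = ∑ χ : IrrCharacter G, Cfsg.classInner (f i) (χ : G → ℂ) •
          pRegularPart p (χ : G → ℂ) := by
        conv_lhs => rw [h2]
        funext g
        rw [Finset.sum_apply]
        by_cases hg : IsPRegular p g
        · unfold pRegularPart
          rw [if_pos hg, Finset.sum_apply]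
          refine Finset.sum_congr rfl fun χ _ => ?_
          rw [Pi.smul_apply, Pi.smul_apply, if_pos hg]
        · unfold pRegularPart
          rw [if_neg hg]
          symm
          refine Finset.sum_eq_zero fun χ _ => ?_
          rw [Pi.smul_apply, if_neg hg, smul_zero]
      exact h1.trans h4
    rw [h3]
    refine Submodule.sum_mem _ fun χ _ => Submodule.smul_mem _ _ (Submodule.subset_span ?_)
    exact ⟨χ, Set.mem_univ _, rfl⟩
  have hli : LinearIndependent ℂ (fun i => (⟨f i, hfV i⟩ : V)) := by
    rw [Fintype.linearIndependent_iff]
    intro c hc i
    have h1 : ∑ j, c j • f j = 0 := by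
      have := congrArg (Submodule.subtype V) hc
      simpa using this
    have h2 := congrFun h1 (t i)
    have h3 : ∀ j, (c j • f j) (t i) = if j = i then c j else 0 := by
      intro j
      by_cases hj : j = i
      · subst hj
        show c j * (if IsConj (t j) (t j) then (1 : ℂ) else 0) = _
        rw [if_pos (IsConj.refl _), mul_one, if_pos rfl]
      · have : ¬ IsConj (t j) (t i) := fun h => hj (hne j i h)
        show c j * (if IsConj (t j) (t i) then (1 : ℂ) else 0) = _
        rw [if_neg this, mul_zero, if_neg hj]
    rw [Finset.sum_apply] at h2
    simp only [h3, Finset.sum_ite_eq', Finset.mem_univ, if_true] at h2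
    exact h2
  exact hli.fintype_card_le_finrank

/-- Elements of different orders prime to `p`. -/
theorem card_le_of_orders (p : ℕ) (S : Finset ℕ) (hS : ∀ n ∈ S, ¬ p ∣ n ∧ ∃ g : G, orderOf g = n) :
    S.card ≤ blockRank p (Set.univ : Set (IrrCharacter G)) := by
  classical
  choose t ht using fun n : S => (hS n n.2).2
  have h := card_le_blockRank (G := G) p t (fun i => by rw [ht i]; exact (hS i i.2).1)
    (fun i j hij => by
      obtain ⟨c, hc⟩ := isConj_iff.1 hij
      have h2 : orderOf (c * t i * c⁻¹) = orderOf (t i) := by
        have := orderOf_injective (MulAut.conj c).toMonoidHom (MulAut.conj c).injective (t i)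
        simpa using this
      apply Subtype.ext
      rw [← ht i, ← ht j, ← h2, hc])
  rwa [Fintype.card_coe] at h

/-- The same for the number of all classes. -/
theorem card_le_conjClasses {ι : Type*} [Fintype ι] (t : ι → G)
    (hne : ∀ i j, IsConj (t i) (t j) → i = j) :
    Fintype.card ι ≤ Nat.card (ConjClasses G) := by
  classical
  have := Fintype.ofFinite (ConjClasses G)
  rw [Nat.card_eq_fintype_card]
  refine Fintype.card_le_of_injective (fun i => ConjClasses.mk (t i)) fun i j h => ?_
  exact hne i j (ConjClasses.mk_eq_mk_iff_isConj.1 h)

/-- Elements of different orders. -/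
theorem card_le_conjClasses_of_orders (S : Finset ℕ) (hS : ∀ n ∈ S, ∃ g : G, orderOf g = n) :
    S.card ≤ Nat.card (ConjClasses G) := by
  classical
  choose t ht using fun n : S => hS n n.2
  have h := card_le_conjClasses (G := G) t (fun i j hij => by
      obtain ⟨c, hc⟩ := isConj_iff.1 hij
      have h2 : orderOf (c * t i * c⁻¹) = orderOf (t i) := by
        have := orderOf_injective (MulAut.conj c).toMonoidHom (MulAut.conj c).injective (t i)
        simpa using this
      apply Subtype.ext
      rw [← ht i, ← ht j, ← h2, hc])
  rwa [Fintype.card_coe] at h

end Cfsg.Agent.H593.IMRank
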