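import Mathlib
import Cfsg.Prelude.Def_Blocks
import Cfsg.Agent.Blocks.PPart
import Cfsg.Agent.Blocks.CyclicLower2
import Cfsg.Agent.Characters.Core
import Cfsg.Agent.Blocks.Local
import Cfsg.Agent.Blocks.Basic
import Cfsg.Agent.Blocks.ConvCentral
import Cfsg.Agent.Blocks.Orthogonality
import Cfsg.Agent.H593.GlaubermanP
import Cfsg.Agent.H593.Robinson1
import Cfsg.Agent.S0907
import Cfsg.Agent.S0914
set_option linter.all false

-- part: H593/D1Local
section
/-!
# Local structure around a subgroup of order `p` with a complement in its normalizer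
-/

set_option autoImplicit false
set_option linter.unusedSectionVars false

namespace Cfsg.Agent.H593.D1Local

open Cfsg

variable {G : Type*} [Group G]

/-- `P` has order `p`, and `K` is a complement of `P` in its normalizer of order prime to `p`. -/
structure Loc (p : ℕ) (P K : Subgroup G) : Prop where
  card : Nat.card P = p
  le : K ≤ Subgroup.normalizer (P : Set G)
  inf : K ⊓ P = ⊥
  mul : ∀ n ∈ Subgroup.normalizer (P : Set G), ∃ k ∈ K, ∃ y ∈ P, n = k * y
  cop : ¬ p ∣ Nat.card K

/-- The elements of `K` centralizing `P`. -/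
abbrev LL (P K : Subgroup G) : Subgroup K := (Subgroup.centralizer (P : Set G)).subgroupOf K

theorem mem_LL {P K : Subgroup G} {k : K} :
    k ∈ LL P K ↔ (k : G) ∈ Subgroup.centralizer (P : Set G) := Subgroup.mem_subgroupOf

theorem relIndex_mul_card' {A B : Subgroup G} (hAB : A ≤ B) :
    A.relIndex B * Nat.card A = Nat.card B := by
  have h1 := Subgroup.index_mul_card (A.subgroupOf B)
  rw [Nat.card_congr (Subgroup.subgroupOfEquivOfLe hAB).toEquiv] at h1
  exact h1

variable {p : ℕ} [hp : Fact p.Prime] {P K : Subgroup G}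

theorem conj_mem_centralizer {g c : G} (hg : g ∈ Subgroup.normalizer (P : Set G))
    (hc : c ∈ Subgroup.centralizer (P : Set G)) :
    g * c * g⁻¹ ∈ Subgroup.centralizer (P : Set G) := by
  rw [Subgroup.mem_centralizer_iff] at hc ⊢
  intro z hz
  have h1 : g⁻¹ * z * g ∈ P := by
    have := (Subgroup.mem_normalizer_iff.1 (inv_mem hg) z).1 hz
    rwa [inv_inv] at this
  have h2 := hc _ h1
  calc z * (g * c * g⁻¹) = g * (g⁻¹ * z * g * c) * g⁻¹ := by group
    _ = g * (c * (g⁻¹ * z * g)) * g⁻¹ := by rw [h2]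
    _ = g * c * g⁻¹ * z := by group

theorem centralizer_le_normalizer :
    Subgroup.centralizer (P : Set G) ≤ Subgroup.normalizer (P : Set G) := by
  intro g hg
  rw [Subgroup.mem_normalizer_iff]
  intro z
  constructor
  · intro hz
    have := Subgroup.mem_centralizer_iff.1 hg z hz
    rw [← this, mul_assoc, mul_inv_cancel, mul_one]
    exact hz
  · intro hz
    have := Subgroup.mem_centralizer_iff.1 hg _ hz
    have h2 : g * z * g⁻¹ * g = g * z := by group
    rw [h2] at this
    have h3 := mul_left_cancel this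
    rw [h3]
    exact hz

namespace Loc

variable (h : Loc p P K)

include h

theorem le_centralizer : P ≤ Subgroup.centralizer (P : Set G) := by
  intro y hy
  have hcyc : IsCyclic P := by
    have := h.card
    exact isCyclic_of_prime_card (p := p) this
  rw [Subgroup.mem_centralizer_iff]
  intro z hz
  have := hcyc.isMulCommutative.is_comm.comm (⟨z, hz⟩ : P) ⟨y, hy⟩
  exact congrArg Subtype.val this

theorem normal : (LL P K).Normal := by
  refine ⟨fun k hk g => ?_⟩
  rw [mem_LL] at hk ⊢
  exact conj_mem_centralizer (h.le g.2) hk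

theorem comm {y : G} (hy : y ∈ P) {c : G} (hc : c ∈ Subgroup.centralizer (P : Set G)) :
    Commute y c := Subgroup.mem_centralizer_iff.1 hc y hy

/-- Decomposition of the centralizer. -/
theorem dec {c : G} (hc : c ∈ Subgroup.centralizer (P : Set G)) :
    ∃ (y : P) (l : LL P K), c = (y : G) * ((l : K) : G) := by
  obtain ⟨k, hk, y, hy, hky⟩ := h.mul c (centralizer_le_normalizer hc)
  have hkC : k ∈ Subgroup.centralizer (P : Set G) := by
    have : k = c * y⁻¹ := by rw [hky]; group
    rw [this]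
    exact mul_mem hc (inv_mem (h.le_centralizer hy))
  refine ⟨⟨y, hy⟩, ⟨⟨k, hk⟩, mem_LL.2 hkC⟩, ?_⟩
  rw [hky]
  exact (h.comm hy hkC).eq.symm

theorem unique {y y' : G} (hy : y ∈ P) (hy' : y' ∈ P) {k k' : G} (hk : k ∈ K) (hk' : k' ∈ K)
    (heq : y * k = y' * k') : y = y' ∧ k = k' := by
  have h1 : y'⁻¹ * y = k' * k⁻¹ := by
    have : y'⁻¹ * (y * k) * k⁻¹ = y'⁻¹ * (y' * k') * k⁻¹ := by rw [heq]
    calc y'⁻¹ * y = y'⁻¹ * (y * k) * k⁻¹ := by group
      _ = y'⁻¹ * (y' * k') * k⁻¹ := this
      _ = k' * k⁻¹ := by group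
  have h2 : k' * k⁻¹ ∈ K ⊓ P :=
    ⟨K.mul_mem hk' (K.inv_mem hk), by rw [← h1]; exact P.mul_mem (P.inv_mem hy') hy⟩
  rw [h.inf, Subgroup.mem_bot] at h2
  rw [h2] at h1
  exact ⟨(inv_mul_eq_one.1 h1).symm, (mul_inv_eq_one.1 h2).symm⟩

theorem mem_pow {y : G} (hy : y ∈ P) (hy1 : y ≠ 1) : orderOf y = p := by
  have h1 : orderOf (⟨y, hy⟩ : P) ∣ p := by
    rw [← h.card]
    exact orderOf_dvd_natCard _
  have h2 : orderOf y = orderOf (⟨y, hy⟩ : P) := Subgroup.orderOf_coe (⟨y, hy⟩ : P)
  rw [h2]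
  rcases (Nat.dvd_prime hp.out).1 h1 with h3 | h3
  · exact absurd (congrArg Subtype.val (orderOf_eq_one_iff.1 h3)) hy1
  · exact h3

theorem isPow {y : G} (hy : y ∈ P) : ∃ k : ℕ, orderOf y = p ^ k := by
  by_cases hy1 : y = 1
  · exact ⟨0, by rw [hy1, orderOf_one, pow_zero]⟩
  · exact ⟨1, by rw [h.mem_pow hy hy1, pow_one]⟩

theorem not_dvd_orderOf (k : K) : ¬ p ∣ orderOf (k : G) := by
  intro hd
  apply h.cop
  rw [Subgroup.orderOf_coe] at hd
  exact hd.trans (orderOf_dvd_natCard k)

theorem isPPart {y : G} (hy : y ∈ P) (l : LL P K) :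
    IsPPart p (y * ((l : K) : G)) y :=
  Cfsg.Agent.Blocks.PPart.isPPart_mul (h.comm hy (mem_LL.1 l.2)) (h.isPow hy)
    (h.not_dvd_orderOf _)

theorem dvd_orderOf {y : G} (hy : y ∈ P) (hy1 : y ≠ 1) (l : LL P K) :
    p ∣ orderOf (y * ((l : K) : G)) := by
  have hcop : (orderOf y).Coprime (orderOf ((l : K) : G)) := by
    rw [h.mem_pow hy hy1]
    exact (Nat.Prime.coprime_iff_not_dvd hp.out).2 (h.not_dvd_orderOf _)
  rw [(h.comm hy (mem_LL.1 l.2)).orderOf_mul_eq_mul_orderOf_of_coprime hcop, h.mem_pow hy hy1]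
  exact Dvd.intro _ rfl

/-- `K` normalizes `P`. -/
theorem conj_mem (k : K) {y : G} (hy : y ∈ P) : (k : G) * y * (k : G)⁻¹ ∈ P :=
  (Subgroup.mem_normalizer_iff.1 (h.le k.2) y).1 hy

theorem conj_mem' (k : K) {y : G} (hy : y ∈ P) : (k : G)⁻¹ * y * (k : G) ∈ P := by
  have := h.conj_mem k⁻¹ hy
  simpa using this

theorem conj_ne_one (k : G) {y : G} (hy1 : y ≠ 1) : k * y * k⁻¹ ≠ 1 := by
  intro h1
  apply hy1
  rw [mul_inv_eq_one] at h1
  exact mul_eq_left.1 h1

/-- Fusion is controlled by the normalizer. -/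
theorem conj_iff [Finite G] {x x' : G} (hx : x ∈ P) (hx1 : x ≠ 1) (hx' : x' ∈ P)
    (l l' : LL P K) (u : G) :
    u * (x * ((l : K) : G)) * u⁻¹ = x' * ((l' : K) : G) ↔
      ∃ (k : K) (y : P), u = (k : G) * y ∧ (k : G) * x * (k : G)⁻¹ = x' ∧
        k * (l : K) * k⁻¹ = (l' : K) := by
  constructor
  · intro hu
    have h1 : IsPPart p (u * (x * ((l : K) : G)) * u⁻¹) (u * x * u⁻¹) :=
      Cfsg.Agent.Blocks.PPart.isPPart_conj (h.isPPart hx l) u
    rw [hu] at h1
    have h2 : u * x * u⁻¹ = x' := Cfsg.Agent.Blocks.PPart.isPPart_unique h1 (h.isPPart hx' l')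
    have h3 : u * ((l : K) : G) * u⁻¹ = ((l' : K) : G) := by
      have h4 : u * (x * ((l : K) : G)) * u⁻¹ = (u * x * u⁻¹) * (u * ((l : K) : G) * u⁻¹) := by
        group
      rw [h4, h2] at hu
      exact mul_left_cancel hu
    have huN : u ∈ Subgroup.normalizer (P : Set G) := by
      refine Cfsg.Agent.Blocks.CyclicLower2.mem_normalizer_of_conj_mem hp.out h.card hx'
        (y := x') ?_ u ?_
      · rw [← h2]; exact h.conj_ne_one u hx1
      · rw [← h2]
        have : u⁻¹ * (u * x * u⁻¹) * u = x := by group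
        rw [this]
        exact hx
    obtain ⟨k, hk, y, hy, hky⟩ := h.mul u huN
    refine ⟨⟨k, hk⟩, ⟨y, hy⟩, hky, ?_, ?_⟩
    · show k * x * k⁻¹ = x'
      rw [← h2, hky]
      have : y * x * y⁻¹ = x := by
        rw [(h.comm hy (h.le_centralizer hx)).eq]
        group
      calc k * x * k⁻¹ = k * (y * x * y⁻¹) * k⁻¹ := by rw [this]
        _ = k * y * x * (k * y)⁻¹ := by group
    · apply Subtype.ext
      show k * ((l : K) : G) * k⁻¹ = ((l' : K) : G)
      rw [← h3, hky]
      have : y * ((l : K) : G) * y⁻¹ = ((l : K) : G) := by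
        rw [(h.comm hy (mem_LL.1 l.2)).eq]
        group
      calc k * ((l : K) : G) * k⁻¹ = k * (y * ((l : K) : G) * y⁻¹) * k⁻¹ := by rw [this]
        _ = k * y * ((l : K) : G) * (k * y)⁻¹ := by group
  · rintro ⟨k, y, rfl, h1, h2⟩
    have h3 : (y : G) * (x * ((l : K) : G)) * (y : G)⁻¹ = x * ((l : K) : G) := by
      have : x * ((l : K) : G) ∈ Subgroup.centralizer (P : Set G) :=
        mul_mem (h.le_centralizer hx) (mem_LL.1 l.2)
      rw [(h.comm y.2 this).eq]
      group
    calc (k : G) * y * (x * ((l : K) : G)) * ((k : G) * y)⁻¹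
        = k * ((y : G) * (x * ((l : K) : G)) * (y : G)⁻¹) * (k : G)⁻¹ := by group
      _ = (k : G) * (x * ((l : K) : G)) * (k : G)⁻¹ := by rw [h3]
      _ = ((k : G) * x * (k : G)⁻¹) * (((k * (l : K) * k⁻¹ : K)) : G) := by
          push_cast
          group
      _ = x' * ((l' : K) : G) := by rw [h1, h2]

/-- Orders of subgroups between `P` and its normalizer. -/
theorem card_eq {T : Subgroup G} (hPT : P ≤ T)
    (hTN : T ≤ Subgroup.normalizer (P : Set G)) :
    Nat.card T = Nat.card (T.subgroupOf K) * p := by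
  rw [← h.card, ← Nat.card_prod]
  symm
  refine Nat.card_congr (Equiv.ofBijective
    (fun a : T.subgroupOf K × P => (⟨(a.1 : K) * (a.2 : G), T.mul_mem
      (Subgroup.mem_subgroupOf.1 a.1.2) (hPT a.2.2)⟩ : T)) ⟨?_, ?_⟩)
  · rintro ⟨k, y⟩ ⟨k', y'⟩ hkk
    have h1 : ((k : K) : G) * y = ((k' : K) : G) * y' := congrArg Subtype.val hkk
    have h2 : ((k' : K) : G)⁻¹ * k = y' * (y : G)⁻¹ := by
      calc ((k' : K) : G)⁻¹ * k = ((k' : K) : G)⁻¹ * (((k : K) : G) * y) * (y : G)⁻¹ := by group
        _ = ((k' : K) : G)⁻¹ * (((k' : K) : G) * y') * (y : G)⁻¹ := by rw [h1]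
        _ = y' * (y : G)⁻¹ := by group
    have h3 : ((k' : K) : G)⁻¹ * k ∈ K ⊓ P :=
      ⟨K.mul_mem (K.inv_mem k'.1.2) k.1.2, by rw [h2]; exact P.mul_mem y'.2 (P.inv_mem y.2)⟩
    rw [h.inf, Subgroup.mem_bot] at h3
    rw [h3] at h2
    have h4 : ((k : K) : G) = k' := (inv_mul_eq_one.1 h3).symm
    have h5 : (y : G) = y' := (mul_inv_eq_one.1 h2.symm).symm
    exact Prod.ext (Subtype.ext (Subtype.ext h4)) (Subtype.ext h5)
  · rintro ⟨t, ht⟩
    obtain ⟨k, hk, y, hy, hky⟩ := h.mul t (hTN ht)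
    have hkT : k ∈ T := by
      have : k = t * y⁻¹ := by rw [hky]; group
      rw [this]
      exact T.mul_mem ht (T.inv_mem (hPT hy))
    exact ⟨(⟨⟨k, hk⟩, Subgroup.mem_subgroupOf.2 hkT⟩, ⟨y, hy⟩), Subtype.ext hky.symm⟩

/-- Relative indices over the centralizer. -/
theorem relIndex_eq [Finite G] {T : Subgroup G} (hCT : Subgroup.centralizer (P : Set G) ≤ T)
    (hTN : T ≤ Subgroup.normalizer (P : Set G)) :
    (LL P K).relIndex (T.subgroupOf K) = (Subgroup.centralizer (P : Set G)).relIndex T := by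
  have h1 := h.card_eq (T := T) (h.le_centralizer.trans hCT) hTN
  have h2 := h.card_eq (T := Subgroup.centralizer (P : Set G)) h.le_centralizer
    centralizer_le_normalizer
  have h3 := relIndex_mul_card' (A := Subgroup.centralizer (P : Set G)) (B := T) hCT
  have hLT : LL P K ≤ T.subgroupOf K := by
    intro k hk
    exact Subgroup.mem_subgroupOf.2 (hCT (mem_LL.1 hk))
  have h4 := relIndex_mul_card' (A := LL P K) (B := T.subgroupOf K) hLT
  rw [h1, h2, ← h4] at h3
  have hpos : 0 < Nat.card (LL P K) * p := Nat.mul_pos Nat.card_pos hp.out.pos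
  apply Nat.eq_of_mul_eq_mul_right hpos
  rw [← mul_assoc, ← h3]

end Loc

/-- Existence of a complement. -/
theorem exists_loc [Finite G] (P : Sylow p G) (hP : Nat.card P = p) :
    ∃ K : Subgroup G, Loc p (P : Subgroup G) K := by
  have hle : (P : Subgroup G) ≤ Subgroup.normalizer ((P : Subgroup G) : Set G) :=
    Subgroup.le_normalizer
  set N := Subgroup.normalizer ((P : Subgroup G) : Set G) with hN
  set PN := (P : Subgroup G).subgroupOf N with hPN
  have hnorm : PN.Normal := by
    rw [hPN, hN]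
    infer_instance
  have hcardPN : Nat.card PN = p := by
    rw [hPN, Nat.card_congr (Subgroup.subgroupOfEquivOfLe hle).toEquiv]
    exact hP
  have hidx : ¬ p ∣ PN.index := by
    intro hd
    have h1 : PN.index = (P : Subgroup G).relIndex N := rfl
    rw [h1] at hd
    have h2 : (P : Subgroup G).relIndex N ∣ (P : Subgroup G).index :=
      Subgroup.relIndex_dvd_index_of_le hle
    exact P.not_dvd_index (hd.trans h2)
  have hcop : Nat.Coprime (Nat.card PN) PN.index := by
    rw [hcardPN]
    exact (Nat.Prime.coprime_iff_not_dvd hp.out).2 hidx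
  obtain ⟨H, hH⟩ := Subgroup.exists_right_complement'_of_coprime hcop
  refine ⟨H.map N.subtype, hP, Subgroup.map_subtype_le H, ?_, ?_, ?_⟩
  · rw [Subgroup.eq_bot_iff_forall]
    rintro _ ⟨⟨k, hk, rfl⟩, hkP⟩
    have h1 : k ∈ PN ⊓ H := ⟨Subgroup.mem_subgroupOf.2 hkP, hk⟩
    rw [hH.disjoint.eq_bot, Subgroup.mem_bot] at h1
    rw [h1]
    rfl
  · intro n hn
    obtain ⟨⟨y, k⟩, hyk⟩ := hH.2 (⟨n, hn⟩ : N)
    have h1 : ((y : N) : G) * ((k : N) : G) = n := congrArg Subtype.val hyk
    refine ⟨(k : N), ⟨k, k.2, rfl⟩, ((k : N) : G)⁻¹ * ((y : N) : G) * ((k : N) : G), ?_, ?_⟩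
    · have := (Subgroup.mem_normalizer_iff.1 (inv_mem (k : N).2) ((y : N) : G)).1
        (Subgroup.mem_subgroupOf.1 y.2)
      rwa [inv_inv] at this
    · rw [← h1]
      group
  · intro hd
    have h1 : Nat.card (H.map N.subtype) = PN.index := by
      rw [hH.symm.index_eq_card]
      exact (Nat.card_congr (H.equivMapOfInjective _ N.subtype_injective).toEquiv).symm
    rw [h1] at hd
    exact hidx hd

end Cfsg.Agent.H593.D1Local
end

-- part: H593/D1Char
section
/-!
# Characters and blocks of the centralizer of a subgroup of order `p`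
-/

set_option autoImplicit false
set_option linter.unusedSectionVars false

namespace Cfsg.Agent.H593.D1Char

open Cfsg
open scoped ComplexConjugate
open Cfsg.Agent.Blocks.Local
open Cfsg.Agent.Blocks.Basic
open Cfsg.Agent.H593.D1Local
open Cfsg.Agent.Characters.Core (isIrr_isCharacter isCharacter_apply_inv isIrr_comp
  isCharacter_comp classInner_irr_self classInner_irr_ne isIrr_iff_classInner_self
  isIrr_isClassFunction finite_irr)

/-! ### Central elements -/

theorem irr_central_mul {A : Type*} [Group A] [Finite A] {χ : A → ℂ} (hχ : IsIrrCharacter A χ)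
    {z : A} (hz : ∀ g : A, z * g = g * z) (g : A) : χ (z * g) * χ 1 = χ z * χ g := by
  classical
  have := Fintype.ofFinite A
  have hf : IsClassFunction A (fun x : A => if x = z then (1 : ℂ) else 0) := by
    intro x y
    have : y * x * y⁻¹ = z ↔ x = z := by
      constructor
      · intro h
        have h1 : x = y⁻¹ * z * y := by rw [← h]; group
        rw [h1, mul_assoc, hz y]
        group
      · rintro rfl
        rw [← hz y, mul_inv_cancel_right]
    simp only [this]
  have h1 := Cfsg.Agent.Blocks.ConvCentral.lin_conv hχ (f' := fun x : A => if x = g then (1 : ℂ)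
    else 0) hf
  rw [Cfsg.Agent.Blocks.ConvCentral.lin_def, Cfsg.Agent.Blocks.ConvCentral.lin_def,
    Cfsg.Agent.Blocks.ConvCentral.lin_def] at h1
  have h2 : ∀ y : A, Cfsg.Agent.Blocks.ConvCentral.conv
        (fun x : A => if x = z then (1 : ℂ) else 0) (fun x : A => if x = g then (1 : ℂ) else 0) y =
          if y = z * g then 1 else 0 := by
    intro y
    rw [Cfsg.Agent.Blocks.ConvCentral.conv_apply]
    simp only [ite_mul, one_mul, zero_mul]
    rw [Finset.sum_ite_eq']
    simp only [Finset.mem_univ, if_true]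
    have : z⁻¹ * y = g ↔ y = z * g := inv_mul_eq_iff_eq_mul
    simp only [this]
  simp only [h2, ite_mul, one_mul, zero_mul, Finset.sum_ite_eq', Finset.mem_univ, if_true] at h1
  exact h1

variable {G : Type*} [Group G] [Fintype G] {p : ℕ} [hp : Fact p.Prime] {P K : Subgroup G}

/-- the centralizer of `P` -/
local notation "CC" P => Subgroup.centralizer ((P : Subgroup G) : Set G)

/-- inclusion of `L` in the centralizer -/
def inc (P K : Subgroup G) : LL P K →* Subgroup.centralizer (P : Set G) where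
  toFun l := ⟨((l : K) : G), mem_LL.1 l.2⟩
  map_one' := rfl
  map_mul' _ _ := rfl

@[simp]
theorem coe_inc (l : LL P K) : ((inc P K l : Subgroup.centralizer (P : Set G)) : G) =
    ((l : K) : G) := rfl

/-- restriction to `L` -/
def res (ψ : Subgroup.centralizer (P : Set G) → ℂ) : LL P K → ℂ := fun l => ψ (inc P K l)

theorem res_apply (ψ : Subgroup.centralizer (P : Set G) → ℂ) (l : LL P K) :
    res (K := K) ψ l = ψ (inc P K l) := rfl

section Loc

variable (h : Loc p P K)

/-- The product homomorphism. -/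
def prodHom : P × LL P K →* Subgroup.centralizer (P : Set G) where
  toFun := fun a => ⟨(a.1 : G) * ((a.2 : K) : G),
    mul_mem (h.le_centralizer a.1.2) (mem_LL.1 a.2.2)⟩
  map_one' := by
    apply Subtype.ext
    simp
  map_mul' := fun a b => by
    apply Subtype.ext
    show ((a.1 * b.1 : P) : G) * (((a.2 * b.2 : LL P K) : K) : G) =
      ((a.1 : G) * ((a.2 : K) : G)) * ((b.1 : G) * ((b.2 : K) : G))
    push_cast
    have := (h.comm b.1.2 (mem_LL.1 a.2.2)).eq
    calc (a.1 : G) * (b.1 : G) * (((a.2 : K) : G) * ((b.2 : K) : G))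
        = (a.1 : G) * ((b.1 : G) * ((a.2 : K) : G)) * ((b.2 : K) : G) := by group
      _ = (a.1 : G) * (((a.2 : K) : G) * (b.1 : G)) * ((b.2 : K) : G) := by rw [this]
      _ = ((a.1 : G) * ((a.2 : K) : G)) * ((b.1 : G) * ((b.2 : K) : G)) := by group

theorem prodHom_bijective : Function.Bijective (prodHom h) := by
  constructor
  · rintro ⟨y, l⟩ ⟨y', l'⟩ hh
    have h1 : (y : G) * ((l : K) : G) = (y' : G) * ((l' : K) : G) := congrArg Subtype.val hh
    obtain ⟨h2, h3⟩ := h.unique y.2 y'.2 (l : K).2 (l' : K).2 h1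
    exact Prod.ext (Subtype.ext h2) (Subtype.ext (Subtype.ext h3))
  · rintro ⟨c, hc⟩
    obtain ⟨y, l, hyl⟩ := h.dec hc
    exact ⟨(y, l), Subtype.ext hyl.symm⟩

/-- The product decomposition of the centralizer. -/
noncomputable def prodEquiv : P × LL P K ≃* Subgroup.centralizer (P : Set G) :=
  MulEquiv.ofBijective (prodHom h) (prodHom_bijective h)

theorem coe_prodEquiv (a : P × LL P K) :
    ((prodEquiv h a : Subgroup.centralizer (P : Set G)) : G) = (a.1 : G) * ((a.2 : K) : G) := rfl

/-- projection to `L` -/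
noncomputable def proj : Subgroup.centralizer (P : Set G) →* LL P K :=
  (MonoidHom.snd P (LL P K)).comp (prodEquiv h).symm.toMonoidHom

theorem proj_prodEquiv (a : P × LL P K) : proj h (prodEquiv h a) = a.2 := by
  show ((prodEquiv h).symm (prodEquiv h a)).2 = a.2
  rw [MulEquiv.symm_apply_apply]

theorem inc_eq (l : LL P K) : inc P K l = prodEquiv h (1, l) := by
  apply Subtype.ext
  rw [coe_prodEquiv, coe_inc, OneMemClass.coe_one, one_mul]

theorem proj_inc (l : LL P K) : proj h (inc P K l) = l := by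
  rw [inc_eq h, proj_prodEquiv]

theorem proj_surjective : Function.Surjective (proj h) := fun l => ⟨inc P K l, proj_inc h l⟩

theorem sum_centralizer [Fintype (Subgroup.centralizer (P : Set G))] [Fintype P]
    [Fintype (LL P K)] {A : Type*} [AddCommMonoid A] (F : Subgroup.centralizer (P : Set G) → A) :
    ∑ c, F c = ∑ y : P, ∑ l : LL P K, F (prodEquiv h (y, l)) := by
  rw [← Fintype.sum_prod_type']
  exact (Fintype.sum_equiv (prodEquiv h).toEquiv _ _ fun a => rfl).symm

include h in
theorem card_centralizer :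
    Nat.card (Subgroup.centralizer (P : Set G)) = p * Nat.card (LL P K) := by
  rw [← Nat.card_congr (prodEquiv h).toEquiv, Nat.card_prod, h.card]

theorem prodEquiv_eq_mul (y : P) (l : LL P K) :
    prodEquiv h (y, l) = prodEquiv h (y, 1) * inc P K l := by
  rw [inc_eq h, ← map_mul]
  congr 1
  exact Prod.ext (mul_one y).symm (one_mul l).symm

theorem prodEquiv_one_comm (y : P) (c : Subgroup.centralizer (P : Set G)) :
    prodEquiv h (y, 1) * c = c * prodEquiv h (y, 1) := by
  apply Subtype.ext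
  show ((prodEquiv h (y, 1) : Subgroup.centralizer (P : Set G)) : G) * (c : G) =
    (c : G) * ((prodEquiv h (y, 1) : Subgroup.centralizer (P : Set G)) : G)
  rw [coe_prodEquiv]
  simp only [OneMemClass.coe_one, mul_one]
  exact (h.comm y.2 c.2).eq

include h

theorem norm_sq_eq {ψ : Subgroup.centralizer (P : Set G) → ℂ}
    (hψ : IsIrrCharacter (Subgroup.centralizer (P : Set G)) ψ) (y : P) (l : LL P K) :
    ψ (prodEquiv h (y, l)) * conj (ψ (prodEquiv h (y, l))) =
      ψ (inc P K l) * conj (ψ (inc P K l)) := by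
  have h1 := irr_central_mul hψ (prodEquiv_one_comm h y) (inc P K l)
  rw [← prodEquiv_eq_mul] at h1
  have h2 := irr_central_mul hψ (prodEquiv_one_comm h y) (prodEquiv h (y, 1))⁻¹
  rw [mul_inv_cancel, isCharacter_apply_inv (isIrr_isCharacter hψ)] at h2
  have h3 := congrArg conj h1
  rw [map_mul, map_mul] at h3
  have hne := irr_one_ne_zero hψ
  have h4 : conj (ψ 1) = ψ 1 := by
    rw [irr_one_eq_charDegree hψ, Complex.conj_natCast]
  rw [h4] at h3
  have h5 : (ψ (prodEquiv h (y, l)) * conj (ψ (prodEquiv h (y, l)))) * (ψ 1 * ψ 1) =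
      (ψ (inc P K l) * conj (ψ (inc P K l))) * (ψ 1 * ψ 1) := by
    calc (ψ (prodEquiv h (y, l)) * conj (ψ (prodEquiv h (y, l)))) * (ψ 1 * ψ 1)
        = (ψ (prodEquiv h (y, l)) * ψ 1) * (conj (ψ (prodEquiv h (y, l))) * ψ 1) := by ring
      _ = (ψ (prodEquiv h (y, 1)) * ψ (inc P K l)) *
          (conj (ψ (prodEquiv h (y, 1))) * conj (ψ (inc P K l))) := by rw [h1, h3]
      _ = (ψ (inc P K l) * conj (ψ (inc P K l))) *
          (ψ (prodEquiv h (y, 1)) * conj (ψ (prodEquiv h (y, 1)))) := by ring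
      _ = _ := by rw [← h2]
  exact mul_right_cancel₀ (mul_ne_zero hne hne) h5

/-- The restriction of an irreducible character of the centralizer to `L` is irreducible. -/
theorem isIrr_res {ψ : Subgroup.centralizer (P : Set G) → ℂ}
    (hψ : IsIrrCharacter (Subgroup.centralizer (P : Set G)) ψ) :
    IsIrrCharacter (LL P K) (res (K := K) ψ) := by
  classical
  have := Fintype.ofFinite (LL P K)
  have := Fintype.ofFinite P
  have := Fintype.ofFinite (Subgroup.centralizer (P : Set G))
  have hc : IsCharacter (LL P K) (res (K := K) ψ) := isCharacter_comp (inc P K) (isIrr_isCharacter hψ)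
  rw [isIrr_iff_classInner_self hc]
  have h1 := classInner_irr_self hψ
  rw [Cfsg.Agent.Characters.Core.classInner_def, sum_centralizer h] at h1
  rw [Cfsg.Agent.Characters.Core.classInner_def, ← h1]
  have h2 : ∑ y : P, ∑ l : LL P K, ψ (prodEquiv h (y, l)) * conj (ψ (prodEquiv h (y, l))) =
      (p : ℂ) * ∑ l : LL P K, res (K := K) ψ l * conj (res (K := K) ψ l) := by
    rw [Finset.sum_congr rfl fun y _ => Finset.sum_congr rfl fun l _ => norm_sq_eq h hψ y l,
      Finset.sum_const, nsmul_eq_mul, Finset.card_univ, ← Nat.card_eq_fintype_card, h.card]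
    rfl
  have hp0 : (p : ℂ) ≠ 0 := Nat.cast_ne_zero.2 hp.out.ne_zero
  rw [h2, card_centralizer h]
  push_cast
  rw [mul_inv]
  field_simp

theorem index_inc (l : LL P K) :
    (Subgroup.centralizer ({inc P K l} : Set (Subgroup.centralizer (P : Set G)))).index =
      (Subgroup.centralizer ({l} : Set (LL P K))).index := by
  rw [index_centralizer_eq_ncard, index_centralizer_eq_ncard]
  symm
  refine Set.ncard_congr (fun a _ => inc P K a) ?_ ?_ ?_
  · intro a ha
    obtain ⟨c, hc⟩ := isConj_iff.1 (show IsConj l a from ha)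
    exact isConj_iff.2 ⟨inc P K c, by rw [← map_inv, ← map_mul, ← map_mul, hc]⟩
  · intro a b _ _ hab
    have := congrArg (proj h) hab
    rwa [proj_inc, proj_inc] at this
  · intro c hc
    obtain ⟨d, hd⟩ := isConj_iff.1 (show IsConj (inc P K l) c from hc)
    obtain ⟨⟨y, m⟩, rfl⟩ := (prodEquiv h).surjective d
    refine ⟨m * l * m⁻¹, isConj_iff.2 ⟨m, rfl⟩, ?_⟩
    rw [← hd, prodEquiv_eq_mul, map_mul, map_mul, map_inv]
    have h1 := prodEquiv_one_comm h y (inc P K m * inc P K l * (inc P K m)⁻¹)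
    calc inc P K m * inc P K l * (inc P K m)⁻¹
        = (inc P K m * inc P K l * (inc P K m)⁻¹) * prodEquiv h (y, 1) *
          (prodEquiv h (y, 1))⁻¹ := by group
      _ = prodEquiv h (y, 1) * (inc P K m * inc P K l * (inc P K m)⁻¹) *
          (prodEquiv h (y, 1))⁻¹ := by rw [← h1]
      _ = prodEquiv h (y, 1) * inc P K m * inc P K l * (prodEquiv h (y, 1) * inc P K m)⁻¹ := by
          group

theorem centralChar_res (ψ : Subgroup.centralizer (P : Set G) → ℂ) (l : LL P K) :
    centralChar (res (K := K) ψ) l = centralChar ψ (inc P K l) := by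
  rw [centralChar_def, centralChar_def, index_inc h, res_apply, res_apply, map_one]

/-- Characters of the centralizer in the same block agree on `L`. -/
theorem res_eq_of_sameBlock {M : Ideal AlgInt} (hM : IsPModular p M)
    {ψ ψ' : IrrCharacter (Subgroup.centralizer (P : Set G))}
    (hs : SameBlock M (ψ : Subgroup.centralizer (P : Set G) → ℂ)
      (ψ' : Subgroup.centralizer (P : Set G) → ℂ)) :
    res (K := K) (ψ : Subgroup.centralizer (P : Set G) → ℂ) =
      res (K := K) (ψ' : Subgroup.centralizer (P : Set G) → ℂ) := by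
  have := Fintype.ofFinite (LL P K)
  have hndvd : ¬ p ∣ Nat.card (LL P K) := fun hd => h.cop (hd.trans (Subgroup.card_subgroup_dvd_card _))
  let r : IrrCharacter (LL P K) := ⟨_, isIrr_res h ψ.2⟩
  let r' : IrrCharacter (LL P K) := ⟨_, isIrr_res h ψ'.2⟩
  have h1 : blockOf M (r : LL P K → ℂ) = {r} := by
    rw [← Cfsg.Agent.S0914.result p M hM r]
    intro hd
    exact hndvd (hd.trans (Nat.div_dvd_of_dvd
      (Cfsg.Agent.H593.GlaubermanP.charDegree_dvd r.2)))
  have h2 : r' ∈ blockOf M (r : LL P K → ℂ) := by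
    intro l
    rw [centralChar_res h, centralChar_res h]
    exact hs _
  rw [h1, Set.mem_singleton_iff] at h2
  exact (congrArg Subtype.val h2).symm

end Loc

end Cfsg.Agent.H593.D1Char
end
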