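import Mathlib
import Cfsg.Prelude.Def_Blocks
import Cfsg.Agent.Blocks.BlockPart
import Cfsg.Agent.H593.D1Char
import Cfsg.Agent.S0923
import Cfsg.Agent.S0973
set_option linter.all false

/-!
# Sections at elements of a subgroup of order `p`
-/

set_option autoImplicit false
set_option linter.unusedSectionVars false

namespace Cfsg.Agent.H593.D1Sec

open Cfsg
open scoped ComplexConjugate
open Cfsg.Agent.Blocks.Local
open Cfsg.Agent.Blocks.Basic
open Cfsg.Agent.H593.D1Local
open Cfsg.Agent.H593.D1Char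
open Cfsg.Agent.Characters.Core (isIrr_isCharacter isCharacter_apply_inv isIrr_comp
  isCharacter_comp classInner_irr_self classInner_irr_ne isIrr_iff_classInner_self
  isIrr_isClassFunction finite_irr classFunction_eq_sum)

/-! ### Transported forms of the main theorems -/

theorem second_main {G : Type*} [Group G] [Finite G] {p : ℕ} [Fact p.Prime] {M : Ideal AlgInt}
    (hM : IsPModular p M) (H : Subgroup G) (x : G) (hH : H = Subgroup.centralizer ({x} : Set G))
    (hx : ∃ k : ℕ, orderOf x = p ^ k) {B : Set (IrrCharacter G)} (hB : IsPBlock M B)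
    {χ : IrrCharacter G} (hχ : χ ∈ B) {b : Set (IrrCharacter H)} (hb : IsPBlock M b)
    (hnot : ¬ IsInducedBlock M H b B) (y : H) (hy : ¬ p ∣ orderOf y) :
    blockPart b (fun c : H => (χ : G → ℂ) (x * (c : G))) y = 0 := by
  subst hH
  exact Cfsg.Agent.S0923.result p M hM x hx B hB χ hχ b hb hnot y hy

theorem extended_first_main {G : Type*} [Group G] [Finite G] {p : ℕ} [Fact p.Prime]
    {M : Ideal AlgInt} (hM : IsPModular p M) {B : Set (IrrCharacter G)} (hB : IsPBlock M B)
    (P H : Subgroup G) (hH : H = P ⊔ Subgroup.centralizer (P : Set G))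
    (hP : IsDefectGroup p M B P) {b b' : Set (IrrCharacter H)} (hb : IsInducedBlock M H b B)
    (hb' : IsInducedBlock M H b' B) :
    ∃ n ∈ Subgroup.normalizer (P : Set G), ∀ θ ∈ b, ∃ θ' ∈ b', ∀ x : H,
      ∀ hx : n * (x : G) * n⁻¹ ∈ H, (θ' : H → ℂ) x = (θ : H → ℂ) ⟨n * (x : G) * n⁻¹, hx⟩ := by
  subst hH
  exact (Cfsg.Agent.S0973.result p M hM B hB P hP).2 b b' hb hb'

/-- The induced block is unique. -/
theorem induced_unique {G : Type*} [Group G] {M : Ideal AlgInt} [M.IsPrime] {H : Subgroup G}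
    {b : Set (IrrCharacter H)} {B B' : Set (IrrCharacter G)} (hB : IsInducedBlock M H b B)
    (hB' : IsInducedBlock M H b B') : B = B' := by
  obtain ⟨hb, hB1, h1⟩ := hB
  obtain ⟨-, hB2, h2⟩ := hB'
  obtain ⟨ξ, hξ⟩ := isPBlock_nonempty hb
  obtain ⟨χ, hχ⟩ := isPBlock_nonempty hB1
  obtain ⟨ψ, hψ⟩ := isPBlock_nonempty hB2
  rw [isPBlock_eq_blockOf hB1 hχ, isPBlock_eq_blockOf hB2 hψ]
  apply blockOf_eq_of_sameBlock
  intro g
  exact memLocalIdeal_sub_trans (memLocalIdeal_sub_comm (h1 ξ hξ χ hχ g)) (h2 ξ hξ ψ hψ g)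

variable {G : Type*} [Group G] [Fintype G] {p : ℕ} [hp : Fact p.Prime] {P K : Subgroup G}

/-- The coefficient function. -/
noncomputable def DD [Fintype (LL P K)] (θ : LL P K → ℂ) (χ : G → ℂ) (x : G) : ℂ :=
  (Nat.card (LL P K) : ℂ)⁻¹ * ∑ l : LL P K, χ (x * ((l : K) : G)) * conj (θ l)

theorem DD_def [Fintype (LL P K)] (θ : LL P K → ℂ) (χ : G → ℂ) (x : G) : DD θ χ x =
    (Nat.card (LL P K) : ℂ)⁻¹ * ∑ l : LL P K, χ (x * ((l : K) : G)) * conj (θ l) := rfl

section Loc

variable (h : Loc p P K)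

/-- Inflation of a character of `L`. -/
noncomputable def infl (θ : IrrCharacter (LL P K)) :
    IrrCharacter (Subgroup.centralizer (P : Set G)) :=
  ⟨(θ : LL P K → ℂ) ∘ proj h, isIrr_comp (proj h) (proj_surjective h) θ.2⟩

theorem infl_apply (θ : IrrCharacter (LL P K)) (c : Subgroup.centralizer (P : Set G)) :
    (infl h θ : Subgroup.centralizer (P : Set G) → ℂ) c = (θ : LL P K → ℂ) (proj h c) := rfl

theorem res_infl (θ : IrrCharacter (LL P K)) :
    res (K := K) (infl h θ : Subgroup.centralizer (P : Set G) → ℂ) = θ := by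
  funext l
  rw [res_apply, infl_apply, proj_inc]

/-- The restriction of an irreducible character of the centralizer. -/
noncomputable def resIrr (ψ : IrrCharacter (Subgroup.centralizer (P : Set G))) :
    IrrCharacter (LL P K) := ⟨_, isIrr_res h ψ.2⟩

theorem coe_resIrr (ψ : IrrCharacter (Subgroup.centralizer (P : Set G))) :
    (resIrr h ψ : LL P K → ℂ) = res (ψ : Subgroup.centralizer (P : Set G) → ℂ) := rfl

theorem resIrr_infl (θ : IrrCharacter (LL P K)) : resIrr h (infl h θ) = θ :=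
  Subtype.ext (res_infl h θ)

/-- A character with `P` in its kernel is inflated from `L`. -/
theorem apply_prodEquiv {θ : IrrCharacter (Subgroup.centralizer (P : Set G))}
    (hθP : ∀ x : Subgroup.centralizer (P : Set G), (x : G) ∈ P →
      (θ : Subgroup.centralizer (P : Set G) → ℂ) x =
        (θ : Subgroup.centralizer (P : Set G) → ℂ) 1) (y : P) (l : LL P K) :
    (θ : Subgroup.centralizer (P : Set G) → ℂ) (prodEquiv h (y, l)) =
      (θ : Subgroup.centralizer (P : Set G) → ℂ) (inc P K l) := by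
  have h1 := irr_central_mul θ.2 (prodEquiv_one_comm h y) (inc P K l)
  rw [← prodEquiv_eq_mul, hθP (prodEquiv h (y, 1)) (by
    rw [coe_prodEquiv]
    simp only [OneMemClass.coe_one, mul_one]
    exact y.2), mul_comm] at h1
  exact mul_left_cancel₀ (irr_one_ne_zero θ.2) h1

theorem eq_infl {θ : IrrCharacter (Subgroup.centralizer (P : Set G))}
    (hθP : ∀ x : Subgroup.centralizer (P : Set G), (x : G) ∈ P →
      (θ : Subgroup.centralizer (P : Set G) → ℂ) x =
        (θ : Subgroup.centralizer (P : Set G) → ℂ) 1) : infl h (resIrr h θ) = θ := by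
  apply Subtype.ext
  funext c
  obtain ⟨⟨y, l⟩, rfl⟩ := (prodEquiv h).surjective c
  rw [infl_apply, proj_prodEquiv, apply_prodEquiv h hθP]
  rfl

include h

theorem centralizer_eq {x : G} (hx : x ∈ P) (hx1 : x ≠ 1) :
    Subgroup.centralizer (P : Set G) = Subgroup.centralizer ({x} : Set G) := by
  have hz : Subgroup.zpowers x = P := by
    have hle : Subgroup.zpowers x ≤ P := by
      rw [Subgroup.zpowers_le]; exact hx
    apply Subgroup.eq_of_le_of_card_ge hle
    rw [h.card, Nat.card_zpowers, h.mem_pow hx hx1]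
  apply le_antisymm
  · exact Subgroup.centralizer_le (Set.singleton_subset_iff.2 hx)
  · intro c hc
    rw [Subgroup.mem_centralizer_iff] at hc ⊢
    intro y hy
    have hy' : y ∈ Subgroup.zpowers x := by rw [hz]; exact hy
    obtain ⟨k, rfl⟩ := Subgroup.mem_zpowers_iff.1 hy'
    have h1 : Commute x c := hc x (Set.mem_singleton x)
    exact (h1.zpow_left k).eq

theorem sup_eq : Subgroup.centralizer (P : Set G) = P ⊔ Subgroup.centralizer (P : Set G) :=
  (sup_eq_right.2 h.le_centralizer).symm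

theorem blockCoeff_eq_zero {M : Ideal AlgInt} (hM : IsPModular p M)
    {b : Set (IrrCharacter (Subgroup.centralizer (P : Set G)))} (hb : IsPBlock M b) {y : P}
    (hy : y ≠ 1) (l : LL P K) : blockCoeff b (prodEquiv h (y, l)) = 0 := by
  rw [blockCoeff_def]
  have h1 := Cfsg.Agent.S0907.result p M hM b hb 1 (prodEquiv h (y, l))
    (by rw [orderOf_one]; exact hp.out.one_lt.ne' ∘ Nat.dvd_one.1)
    (by
      rw [← Subgroup.orderOf_coe, coe_prodEquiv]
      exact h.dvd_orderOf y.2 (fun hh => hy (Subtype.ext hh)) l)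
  rw [h1, mul_zero]

theorem blockCoeff_inc {M : Ideal AlgInt} [M.IsPrime] (hM : IsPModular p M)
    (θ : IrrCharacter (LL P K)) (l : LL P K) :
    blockCoeff (blockOf M (infl h θ : Subgroup.centralizer (P : Set G) → ℂ)) (inc P K l) =
      ((Nat.card (Subgroup.centralizer (P : Set G)) : ℂ)⁻¹ *
        (Nat.card (blockOf M (infl h θ : Subgroup.centralizer (P : Set G) → ℂ)) : ℂ) *
        (θ : LL P K → ℂ) 1) * conj ((θ : LL P K → ℂ) l) := by
  classical
  have := finite_irr (G := Subgroup.centralizer (P : Set G))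
  have := Fintype.ofFinite (blockOf M (infl h θ : Subgroup.centralizer (P : Set G) → ℂ))
  rw [blockCoeff_def, ← finsum_set_coe_eq_finsum_mem, finsum_eq_sum_of_fintype]
  have h1 : ∀ ψ : blockOf M (infl h θ : Subgroup.centralizer (P : Set G) → ℂ),
      ((ψ : IrrCharacter (Subgroup.centralizer (P : Set G))) :
        Subgroup.centralizer (P : Set G) → ℂ) 1 *
      conj (((ψ : IrrCharacter (Subgroup.centralizer (P : Set G))) :
        Subgroup.centralizer (P : Set G) → ℂ) (inc P K l)) =
      (θ : LL P K → ℂ) 1 * conj ((θ : LL P K → ℂ) l) := by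
    intro ψ
    have h2 := res_eq_of_sameBlock h hM ψ.2
    rw [res_infl] at h2
    have h3 := congrFun h2 1
    have h4 := congrFun h2 l
    rw [res_apply, map_one] at h3
    rw [res_apply] at h4
    rw [h3, h4]
  rw [Finset.sum_congr rfl fun ψ _ => h1 ψ, Finset.sum_const, Finset.card_univ, nsmul_eq_mul,
    ← Nat.card_eq_fintype_card]
  ring

/-- If the coefficient function does not vanish then the block is induced. -/
theorem induced_of_ne [Fintype (LL P K)] {M : Ideal AlgInt} [M.IsPrime] (hM : IsPModular p M)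
    {θ : IrrCharacter (LL P K)} {x : G} (hx : x ∈ P) (hx1 : x ≠ 1) {B : Set (IrrCharacter G)}
    (hB : IsPBlock M B) {χ : IrrCharacter G} (hχ : χ ∈ B)
    (hne : DD (θ : LL P K → ℂ) (χ : G → ℂ) x ≠ 0) :
    IsInducedBlock M (Subgroup.centralizer (P : Set G))
      (blockOf M (infl h θ : Subgroup.centralizer (P : Set G) → ℂ)) B := by
  classical
  by_contra hnot
  apply hne
  have := Fintype.ofFinite (Subgroup.centralizer (P : Set G))
  have := Fintype.ofFinite P
  have := finite_irr (G := Subgroup.centralizer (P : Set G))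
  set b := blockOf M (infl h θ : Subgroup.centralizer (P : Set G) → ℂ) with hb
  have hb' : IsPBlock M b := ⟨_, rfl⟩
  have h1 := second_main hM (Subgroup.centralizer (P : Set G)) x (centralizer_eq h hx hx1)
    (h.isPow hx) hB hχ hb' hnot 1
    (by rw [orderOf_one]; exact hp.out.one_lt.ne' ∘ Nat.dvd_one.1)
  have hcl : IsClassFunction (Subgroup.centralizer (P : Set G))
      (fun c : Subgroup.centralizer (P : Set G) => (χ : G → ℂ) (x * (c : G))) := by
    intro c d
    show (χ : G → ℂ) (x * ((d : G) * c * (d : G)⁻¹)) = (χ : G → ℂ) (x * c)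
    have h2 : x * ((d : G) * c * (d : G)⁻¹) = d * (x * c) * (d : G)⁻¹ := by
      have := (h.comm hx d.2).eq
      calc x * ((d : G) * c * (d : G)⁻¹) = (x * d) * c * (d : G)⁻¹ := by group
        _ = (d * x) * c * (d : G)⁻¹ := by rw [this]
        _ = d * (x * c) * (d : G)⁻¹ := by group
    rw [h2, irr_conj χ.2]
  rw [Cfsg.Agent.Blocks.BlockPart.blockPart_eq_sum b hcl, sum_centralizer h] at h1
  rw [← Finset.add_sum_erase _ _ (Finset.mem_univ (1 : P))] at h1
  have h3 : ∑ y ∈ Finset.univ.erase (1 : P), ∑ l : LL P K,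
      blockCoeff b (prodEquiv h (y, l)) *
        (χ : G → ℂ) (x * ((prodEquiv h (y, l) * 1 : Subgroup.centralizer (P : Set G)) : G)) = 0 := by
    refine Finset.sum_eq_zero fun y hy => Finset.sum_eq_zero fun l _ => ?_
    rw [blockCoeff_eq_zero h hM hb' (Finset.ne_of_mem_erase hy), zero_mul]
  rw [h3, add_zero] at h1
  have h4 : ∀ l : LL P K, blockCoeff b (prodEquiv h ((1 : P), l)) *
      (χ : G → ℂ) (x * ((prodEquiv h ((1 : P), l) * 1 : Subgroup.centralizer (P : Set G)) : G)) =
      ((Nat.card (Subgroup.centralizer (P : Set G)) : ℂ)⁻¹ * (Nat.card b : ℂ) *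
        (θ : LL P K → ℂ) 1) *
        ((χ : G → ℂ) (x * ((l : K) : G)) * conj ((θ : LL P K → ℂ) l)) := by
    intro l
    rw [mul_one, ← inc_eq h, hb, blockCoeff_inc h hM, coe_inc]
    ring
  rw [Finset.sum_congr rfl fun l _ => h4 l, ← Finset.mul_sum] at h1
  have hbne : (Nat.card b : ℂ) ≠ 0 := by
    have : Nonempty b := ⟨⟨infl h θ, mem_blockOf_self _⟩⟩
    exact_mod_cast Nat.card_pos.ne'
  have hCne : (Nat.card (Subgroup.centralizer (P : Set G)) : ℂ)⁻¹ ≠ 0 :=
    inv_ne_zero (by exact_mod_cast Nat.card_pos.ne')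
  rw [DD_def]
  rcases mul_eq_zero.1 h1 with h5 | h5
  · exact absurd h5 (mul_ne_zero (mul_ne_zero hCne hbne) (irr_one_ne_zero θ.2))
  · rw [h5, mul_zero]

/-- Two blocks of the centralizer inducing `B` are conjugate under `K`. -/
theorem conj_of_induced {M : Ideal AlgInt} [M.IsPrime] (hM : IsPModular p M)
    {B : Set (IrrCharacter G)} (hB : IsPBlock M B) (hBP : IsDefectGroup p M B P)
    {θ θ' : IrrCharacter (LL P K)}
    (h1 : IsInducedBlock M (Subgroup.centralizer (P : Set G))
      (blockOf M (infl h θ : Subgroup.centralizer (P : Set G) → ℂ)) B)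
    (h2 : IsInducedBlock M (Subgroup.centralizer (P : Set G))
      (blockOf M (infl h θ' : Subgroup.centralizer (P : Set G) → ℂ)) B) :
    ∃ k : K, ∀ l : LL P K, (θ' : LL P K → ℂ) l =
      (θ : LL P K → ℂ) ⟨k * l * k⁻¹, h.normal.conj_mem l l.2 k⟩ := by
  obtain ⟨n, hn, h3⟩ := extended_first_main hM hB P (Subgroup.centralizer (P : Set G))
    (sup_eq h) hBP h1 h2
  obtain ⟨k, hk, y, hy, hky⟩ := h.mul n hn
  obtain ⟨ψ, hψ, h4⟩ := h3 (infl h θ) (mem_blockOf_self _)
  refine ⟨⟨k, hk⟩, fun l => ?_⟩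
  have h5 := res_eq_of_sameBlock h hM hψ
  rw [res_infl] at h5
  have h6 : n * ((inc P K l : Subgroup.centralizer (P : Set G)) : G) * n⁻¹ =
      k * ((l : K) : G) * k⁻¹ := by
    rw [coe_inc, hky]
    have : y * ((l : K) : G) * y⁻¹ = ((l : K) : G) := by
      rw [(h.comm hy (mem_LL.1 l.2)).eq]
      group
    calc k * y * ((l : K) : G) * (k * y)⁻¹ = k * (y * ((l : K) : G) * y⁻¹) * k⁻¹ := by group
      _ = k * ((l : K) : G) * k⁻¹ := by rw [this]
  have h7 : n * ((inc P K l : Subgroup.centralizer (P : Set G)) : G) * n⁻¹ ∈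
      Subgroup.centralizer (P : Set G) := conj_mem_centralizer hn (inc P K l).2
  have h8 := h4 (inc P K l) h7
  have h9 : (⟨n * ((inc P K l : Subgroup.centralizer (P : Set G)) : G) * n⁻¹, h7⟩ :
      Subgroup.centralizer (P : Set G)) = inc P K ⟨⟨k, hk⟩ * l * ⟨k, hk⟩⁻¹,
        h.normal.conj_mem l l.2 ⟨k, hk⟩⟩ := by
    apply Subtype.ext
    exact h6
  rw [h9] at h8
  rw [h5, res_apply, h8, infl_apply, proj_inc]

end Loc

end Cfsg.Agent.H593.D1Sec
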