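import Mathlib
import Cfsg.Prelude.Def_Blocks
import Cfsg.Agent.H33.IM
import Cfsg.Agent.H606.HeightBound
import Cfsg.Agent.H616.GalFam
import Cfsg.Agent.H593.D1Char
import Cfsg.Agent.H593.IMRank
import Cfsg.Agent.S0145
import Cfsg.Agent.S4558
import Cfsg.Agent.S0030
import Cfsg.Agent.FastGrp
import Cfsg.Agent.Prune
set_option linter.all false

section
prune_inst 0x7f00000000000000000000000000000000000000000000000000000000000000000000000000000000000000000000000000000000000000000000000000000000000000000000000000000000000000003ffff7f7ffffffffffffffffffffbeffbdebfeffff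

-- part: H593/IMCount
section
set_option linter.all false
open scoped Cfsg.Agent.FastGrp

/-!
# A counting criterion for character degrees divisible by `p`

Let `x` be a `p`-element of `G`, `C = C_G(x)`.

* `card_le` : if no irreducible character of `G` has degree divisible by `p` then
  `k(G) ≤ |C|_p * l(C)`, `l(C)` the number of classes of `p'`-elements of `C`.
* `IM_of_count` : hence `IM p G` as soon as `|C|_p * l(C) < k(G)`.
-/

set_option autoImplicit false
set_option linter.unusedSectionVars false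
set_option linter.unusedVariables false

namespace Cfsg.Agent.H593.IMCount

open Cfsg Cfsg.Agent.Blocks.Blau Cfsg.Agent.H33
open Cfsg.Agent.Characters.GaloisBasic
open scoped ComplexConjugate

universe u

section basic

variable {C : Type u} [Group C] [Fintype C] {p : ℕ}

/-- The `p'`-part of the order. -/
noncomputable def np' (p : ℕ) (C : Type u) [Group C] : ℕ :=
  Nat.card C / p ^ (Nat.card C).factorization p

theorem np'_mul [hp : Fact p.Prime] : p ^ (Nat.card C).factorization p * np' p C = Nat.card C :=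
  Nat.ordProj_mul_ordCompl_eq_self _ _

theorem np'_pos [hp : Fact p.Prime] : 0 < np' p C := by
  have h := np'_mul (C := C) (p := p)
  have h1 : Nat.card C ≠ 0 := Nat.card_pos.ne'
  rw [← h] at h1
  exact Nat.pos_of_ne_zero (Nat.mul_ne_zero_iff.1 h1).2

theorem np'_ne_zero [hp : Fact p.Prime] : (np' p C : ℂ) ≠ 0 :=
  Nat.cast_ne_zero.2 np'_pos.ne'

theorem regPart_conj_sum {ι : Type*} (s : Finset ι) (A : ι → ℂ) (f : ι → C → ℂ) (c : C) :
    regPart p (fun x => conj (∑ i ∈ s, A i * f i x)) c =
      ∑ i ∈ s, conj (A i) * regPart p (fun x => conj (f i x)) c := by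
  by_cases h : p ∣ orderOf c
  · rw [regPart_of_dvd h]
    symm
    refine Finset.sum_eq_zero fun i _ => ?_
    rw [regPart_of_dvd h, mul_zero]
  · rw [regPart_of_not_dvd h, map_sum]
    refine Finset.sum_congr rfl fun i _ => ?_
    rw [regPart_of_not_dvd h, map_mul]

theorem pair_sum {ι : Type*} (s : Finset ι) (A : ι → ℂ) (f : ι → C → ℂ) :
    pair p (fun c => ∑ i ∈ s, A i * f i c) (fun c => ∑ i ∈ s, A i * f i c) =
      ∑ j ∈ s, ∑ i ∈ s, A i * conj (A j) * pair p (f i) (f j) := by
  have h1 : ∀ c : C, regPart p (fun x => conj (∑ i ∈ s, A i * f i x)) c * ∑ i ∈ s, A i * f i c =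
      ∑ j ∈ s, ∑ i ∈ s, A i * conj (A j) * (regPart p (fun x => conj (f j x)) c * f i c) := by
    intro c
    rw [regPart_conj_sum, Finset.sum_mul_sum]
    refine Finset.sum_congr rfl fun j _ => Finset.sum_congr rfl fun i _ => ?_
    ring
  rw [pair_def, Finset.sum_congr rfl fun c _ => h1 c, Finset.sum_comm]
  refine Finset.sum_congr rfl fun j _ => ?_
  rw [Finset.sum_comm]
  refine Finset.sum_congr rfl fun i _ => ?_
  rw [pair_def, Finset.mul_sum]

/-- Integrality of the `p`-regular norm of an integral combination of irreducible characters. -/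
theorem isIntegral_pair_div [hp : Fact p.Prime] [Fintype (IrrCharacter C)]
    (A : IrrCharacter C → ℂ) (hA : ∀ ψ, IsIntegral ℤ (A ψ)) {f : C → ℂ}
    (hf : ∀ c, f c = ∑ ψ : IrrCharacter C, A ψ * (ψ : C → ℂ) c) :
    IsIntegral ℤ (pair p f f / np' p C) := by
  have h1 : f = fun c => ∑ ψ : IrrCharacter C, A ψ * (ψ : C → ℂ) c := funext hf
  rw [h1, pair_sum, Finset.sum_div]
  refine IsIntegral.sum _ fun ψ _ => ?_
  rw [Finset.sum_div]
  refine IsIntegral.sum _ fun φ _ => ?_
  obtain ⟨t, ht⟩ := H606.HeightBound.exists_pair_eq (p := p) φ ψ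
  rw [ht]
  have h2 : A φ * conj (A ψ) * (((Nat.card C / p ^ (Nat.card C).factorization p : ℕ) : ℂ) * (t : ℂ)) /
      (np' p C : ℂ) = A φ * conj (A ψ) * (t : ℂ) := by
    have := np'_ne_zero (C := C) (p := p)
    show A φ * conj (A ψ) * ((np' p C : ℂ) * (t : ℂ)) / (np' p C : ℂ) = _
    field_simp
  rw [h2]
  refine ((hA φ).mul ?_).mul isIntegral_algebraMap
  exact (hA ψ).map (Complex.conjAe.toAlgHom.restrictScalars ℤ)

end basic

/-- The arithmetic-geometric mean bound for nonnegative families. -/
theorem card_le_sum_nonneg {q : ℕ} [NeZero q] {F : ℕ → ℂ} (h : Cfsg.Agent.H616.GalFam q F)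
    (h1 : F 1 ≠ 0) {R : ℕ → ℝ} (hR : ∀ k, F k = (R k : ℂ)) (h0 : ∀ k, 0 ≤ R k) :
    (Fintype.card (ZMod q)ˣ : ℝ) ≤ ∑ u : (ZMod q)ˣ, R (u : ZMod q).val := by
  have hq : q ≠ 0 := NeZero.ne q
  obtain ⟨m, hm⟩ := h.exists_prod
  set N : ℕ := Fintype.card (ZMod q)ˣ with hN
  have hNpos : (0 : ℝ) < N := by exact_mod_cast Fintype.card_pos
  have hm0 : m ≠ 0 := by
    intro hm0
    rw [hm0, Int.cast_zero, Finset.prod_eq_zero_iff] at hm
    obtain ⟨u, -, hu⟩ := hm
    exact h.ne_zero hq h1 (ZMod.val_coe_unit_coprime u) hu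
  have hprod : ∏ u : (ZMod q)ˣ, R (u : ZMod q).val = (m : ℝ) := by
    have h2 : ((∏ u : (ZMod q)ˣ, R (u : ZMod q).val : ℝ) : ℂ) = ((m : ℝ) : ℂ) := by
      rw [Complex.ofReal_prod]
      simp only [← hR]
      rw [hm]
      simp
    exact_mod_cast h2
  have hm1 : (1 : ℝ) ≤ m := by
    have h2 : (0 : ℝ) ≤ m := by
      rw [← hprod]
      exact Finset.prod_nonneg fun u _ => h0 _
    have h3 : (0 : ℤ) ≤ m := by exact_mod_cast h2
    have h4 : (1 : ℤ) ≤ m := by omega
    exact_mod_cast h4
  have h2 := Real.geom_mean_le_arith_mean_weighted (Finset.univ : Finset (ZMod q)ˣ)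
      (fun _ => (N : ℝ)⁻¹) (fun u => R (u : ZMod q).val)
      (fun _ _ => inv_nonneg.2 hNpos.le)
      (by rw [Finset.sum_const, Finset.card_univ, nsmul_eq_mul, ← hN,
        mul_inv_cancel₀ hNpos.ne'])
      (fun u _ => h0 _)
  rw [Real.finsetProd_rpow _ _ (fun u _ => h0 _), ← Finset.mul_sum, hprod] at h2
  have h3 : (1 : ℝ) ≤ (m : ℝ) ^ (N : ℝ)⁻¹ := Real.one_le_rpow hm1 (inv_nonneg.2 hNpos.le)
  have h4 := h3.trans h2
  rw [← div_eq_inv_mul, le_div_iff₀ hNpos, one_mul] at h4
  exact h4

section main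

variable {G : Type u} [Group G]

/-- The function `c ↦ χ (x ^ k * c)` on the centralizer of `x`. -/
def sec (χ : G → ℂ) (x : G) (k : ℕ) : Subgroup.centralizer ({x} : Set G) → ℂ :=
  fun c => χ (x ^ k * (c : G))

theorem sec_apply (χ : G → ℂ) (x : G) (k : ℕ) (c : Subgroup.centralizer ({x} : Set G)) :
    sec χ x k c = χ (x ^ k * (c : G)) := rfl

theorem self_mem (x : G) : x ∈ Subgroup.centralizer ({x} : Set G) :=
  Subgroup.mem_centralizer_singleton_iff.2 rfl

theorem comm_coe (x : G) (c : Subgroup.centralizer ({x} : Set G)) : x * (c : G) = (c : G) * x :=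
  (Subgroup.mem_centralizer_singleton_iff.1 c.2).symm

/-- Values of an irreducible character at `z ^ k * g`, `z` central. -/
theorem exists_eps {A : Type*} [Group A] [Finite A] {ψ : A → ℂ} (hψ : IsIrrCharacter A ψ)
    {z : A} (hz : ∀ g : A, z * g = g * z) : ∃ ε : ℂ, IsIntegral ℤ ε ∧
      ∀ (k : ℕ) (g : A), ψ (z ^ k * g) = ε ^ k * ψ g := by
  have h1 := Cfsg.Agent.Characters.Core.isIrr_apply_one_ne_zero hψ
  have h2 : ∀ g : A, ψ (z * g) = ψ z / ψ 1 * ψ g := by
    intro g
    have h3 := D1Char.irr_central_mul hψ hz g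
    field_simp
    rw [mul_comm]
    linear_combination h3
  have h3 : ∀ (k : ℕ) (g : A), ψ (z ^ k * g) = (ψ z / ψ 1) ^ k * ψ g := by
    intro k
    induction k with
    | zero => intro g; simp
    | succ k ih =>
      intro g
      rw [pow_succ, mul_assoc, ih, h2, pow_succ]
      ring
  refine ⟨ψ z / ψ 1, ?_, h3⟩
  have h4 := h3 (orderOf z) 1
  rw [pow_orderOf_eq_one, mul_one] at h4
  have h5 : (ψ z / ψ 1) ^ orderOf z = 1 := by
    have h6 : ((ψ z / ψ 1) ^ orderOf z - 1) * ψ 1 = 0 := by
      linear_combination -h4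
    rcases mul_eq_zero.1 h6 with h | h
    · exact sub_eq_zero.1 h
    · exact absurd h h1
  refine IsIntegral.of_pow (orderOf_pos z) ?_
  rw [h5]
  exact isIntegral_one

variable [Finite G] {p : ℕ} [hp : Fact p.Prime]

/-- The normalised norm of the section. -/
noncomputable def FF (p : ℕ) (χ : G → ℂ) (x : G)
    [Fintype (Subgroup.centralizer ({x} : Set G))] (k : ℕ) : ℂ :=
  pair p (sec χ x k) (sec χ x k) / np' p (Subgroup.centralizer ({x} : Set G))

variable {x : G} [Fintype (Subgroup.centralizer ({x} : Set G))]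

theorem isIntegral_FF {χ : G → ℂ} (hχ : IsCharacter G χ) (k : ℕ) : IsIntegral ℤ (FF p χ x k) := by
  classical
  have hfin := Cfsg.Agent.Characters.Core.finite_irr
    (G := Subgroup.centralizer ({x} : Set G))
  have := Fintype.ofFinite (IrrCharacter (Subgroup.centralizer ({x} : Set G)))
  obtain ⟨m, hm⟩ := Cfsg.Agent.Characters.Core.exists_nat_comb
    (Cfsg.Agent.Characters.Core.isCharacter_comp
      (Subgroup.subtype (Subgroup.centralizer ({x} : Set G))) hχ)
  set z : Subgroup.centralizer ({x} : Set G) := ⟨x, self_mem x⟩ with hz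
  have hzc : ∀ g : Subgroup.centralizer ({x} : Set G), z * g = g * z := by
    intro g
    apply Subtype.ext
    exact comm_coe x g
  choose ε hε1 hε2 using fun ψ : IrrCharacter (Subgroup.centralizer ({x} : Set G)) =>
    exists_eps ψ.2 hzc
  refine isIntegral_pair_div (fun ψ => (m ψ : ℂ) * ε ψ ^ k) (fun ψ => ?_) (fun c => ?_)
  · have hmi : IsIntegral ℤ (m ψ : ℂ) := by
      exact_mod_cast (isIntegral_algebraMap (R := ℤ) (A := ℂ) (x := (m ψ : ℤ)))
    exact hmi.mul ((hε1 ψ).pow k)
  · have h1 := congrFun hm (z ^ k * c)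
    have h2 : sec χ x k c = (χ ∘ (Subgroup.subtype (Subgroup.centralizer ({x} : Set G))))
        (z ^ k * c) := rfl
    rw [h2, h1, Finset.sum_apply]
    refine Finset.sum_congr rfl fun ψ _ => ?_
    rw [Pi.smul_apply, hε2 ψ k c, nsmul_eq_mul]
    ring

theorem FF_eq_sum {χ : G → ℂ} (hχ : IsCharacter G χ) (k : ℕ) :
    FF p χ x k = (∑ c : Subgroup.centralizer ({x} : Set G), if p ∣ orderOf c then 0 else
      χ (x ^ k * (c : G)) * χ ((x ^ k * (c : G))⁻¹)) /
        np' p (Subgroup.centralizer ({x} : Set G)) := by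
  unfold FF
  rw [pair_def]
  congr 1
  refine Finset.sum_congr rfl fun c _ => ?_
  by_cases h : p ∣ orderOf c
  · rw [regPart_of_dvd h, zero_mul, if_pos h]
  · rw [regPart_of_not_dvd h, if_neg h, sec_apply,
      Cfsg.Agent.Characters.Core.isCharacter_apply_inv hχ, mul_comm]

theorem galFam_FF {χ : G → ℂ} (hχ : IsCharacter G χ) :
    Cfsg.Agent.H616.GalFam (Nat.card G) (FF p χ x) := by
  refine ⟨fun k => isIntegral_FF hχ k, fun k k' hk => ?_, fun σ m hσ k => ?_⟩
  · have h1 : x ^ k = x ^ k' := by
      rw [pow_eq_pow_iff_modEq]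
      exact hk.of_dvd (orderOf_dvd_natCard x)
    have h2 : sec χ x k = sec χ x k' := by
      funext c
      rw [sec_apply, sec_apply, h1]
    unfold FF
    rw [h2]
  · have hcop : m.Coprime (Nat.card G) := by
      have hζ := Complex.isPrimitiveRoot_exp (Nat.card G) (Nat.card_pos (α := G)).ne'
      have h1 := hζ.map_of_injective σ.injective
      rw [hσ _ hζ.pow_eq_one] at h1
      exact (hζ.pow_iff_coprime Nat.card_pos m).1 h1
    have hcopC : (Nat.card (Subgroup.centralizer ({x} : Set G))).Coprime m :=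
      (Nat.Coprime.coprime_dvd_right (Subgroup.card_subgroup_dvd_card _) hcop).symm
    rw [FF_eq_sum hχ, FF_eq_sum hχ, map_div₀, map_natCast, map_sum]
    congr 1
    refine Fintype.sum_equiv (powCoprime hcopC) _ _ fun c => ?_
    have hord : orderOf (c ^ m) = orderOf c :=
      Nat.Coprime.orderOf_pow ((Nat.Coprime.coprime_dvd_left (orderOf_dvd_natCard c) hcopC))
    show σ (if p ∣ orderOf c then 0 else _) = if p ∣ orderOf (c ^ m) then 0 else
      χ (x ^ (k * m) * ((c ^ m : Subgroup.centralizer ({x} : Set G)) : G)) *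
        χ ((x ^ (k * m) * ((c ^ m : Subgroup.centralizer ({x} : Set G)) : G))⁻¹)
    rw [hord]
    by_cases h : p ∣ orderOf c
    · rw [if_pos h, if_pos h, map_zero]
    · rw [if_neg h, if_neg h, map_mul, map_apply σ hσ hχ Nat.card_pos.ne' pow_card_eq_one',
        map_apply σ hσ hχ Nat.card_pos.ne' pow_card_eq_one']
      have h1 : (x ^ k * (c : G)) ^ m = x ^ (k * m) *
          ((c ^ m : Subgroup.centralizer ({x} : Set G)) : G) := by
        have hc : Commute (x ^ k) (c : G) := (show Commute x (c : G) from comm_coe x c).pow_left k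
        rw [hc.mul_pow, ← pow_mul]
        rfl
      rw [h1, inv_pow, h1]

theorem FF_eq_real (χ : G → ℂ) (k : ℕ) : FF p χ x k =
    (((∑ c : Subgroup.centralizer ({x} : Set G), if p ∣ orderOf c then 0 else
      ‖χ (x ^ k * (c : G))‖ ^ 2) / np' p (Subgroup.centralizer ({x} : Set G)) : ℝ) : ℂ) := by
  unfold FF
  rw [pair_def, Complex.ofReal_div, Complex.ofReal_natCast, Complex.ofReal_sum]
  congr 1
  refine Finset.sum_congr rfl fun c _ => ?_
  by_cases h : p ∣ orderOf c
  · rw [regPart_of_dvd h, zero_mul, if_pos h, Complex.ofReal_zero]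
  · rw [regPart_of_not_dvd h, if_neg h, mul_comm, sec_apply, Complex.mul_conj,
      Complex.normSq_eq_norm_sq]

/-- The real number `FF`. -/
noncomputable def RR (p : ℕ) (χ : G → ℂ) (x : G)
    [Fintype (Subgroup.centralizer ({x} : Set G))] (k : ℕ) : ℝ :=
  (∑ c : Subgroup.centralizer ({x} : Set G), if p ∣ orderOf c then 0 else
      ‖χ (x ^ k * (c : G))‖ ^ 2) / np' p (Subgroup.centralizer ({x} : Set G))

theorem RR_nonneg (χ : G → ℂ) (k : ℕ) : 0 ≤ RR p χ x k := by
  unfold RR
  refine div_nonneg (Finset.sum_nonneg fun c _ => ?_) (Nat.cast_nonneg _)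
  split_ifs
  · exact le_rfl
  · positivity

theorem RR_one_ne_zero {χ : G → ℂ} (h : χ x ≠ 0) : FF p χ x 1 ≠ 0 := by
  rw [FF_eq_real]
  have h1 : (0 : ℝ) < (∑ c : Subgroup.centralizer ({x} : Set G), if p ∣ orderOf c then 0 else
      ‖χ (x ^ 1 * (c : G))‖ ^ 2) / np' p (Subgroup.centralizer ({x} : Set G)) := by
    refine div_pos ?_ (by exact_mod_cast np'_pos)
    refine Finset.sum_pos' (fun c _ => ?_) ⟨1, Finset.mem_univ _, ?_⟩
    · split_ifs
      · exact le_rfl
      · positivity
    · have h2 : ¬ p ∣ orderOf (1 : Subgroup.centralizer ({x} : Set G)) := by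
        rw [orderOf_one, Nat.dvd_one]
        exact hp.out.one_lt.ne'
      rw [if_neg h2, Subgroup.coe_one, mul_one, pow_one]
      have : (0 : ℝ) < ‖χ x‖ := norm_pos_iff.2 h
      positivity
  exact_mod_cast h1.ne'

theorem norm_irr_sum [Fintype G] [Fintype (IrrCharacter G)] (g : G) :
    ∑ χ : IrrCharacter G, ‖(χ : G → ℂ) g‖ ^ 2 =
      (Nat.card (Subgroup.centralizer ({g} : Set G)) : ℝ) := by
  classical
  have h1 := Cfsg.Agent.S0145.sum_irr_mul_conj g g
  rw [if_pos (IsConj.refl g)] at h1
  have h2 : ((∑ χ : IrrCharacter G, ‖(χ : G → ℂ) g‖ ^ 2 : ℝ) : ℂ) =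
      ((Nat.card (Subgroup.centralizer ({g} : Set G)) : ℝ) : ℂ) := by
    rw [Complex.ofReal_sum, Complex.ofReal_natCast, ← h1]
    refine Finset.sum_congr rfl fun χ _ => ?_
    rw [Complex.mul_conj, Complex.normSq_eq_norm_sq]
  exact_mod_cast h2

/-- The number of classes of `p'`-elements. -/
noncomputable def numReg (p : ℕ) (C : Type*) [Group C] : ℕ :=
  Nat.card {A : ConjClasses C // ∀ c : C, ConjClasses.mk c = A → ¬ p ∣ orderOf c}

theorem numReg_le {C : Type*} [Group C] {ι : Type*} [Fintype ι] (t : ι → C)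
    (ht : ∀ c : C, ¬ p ∣ orderOf c → ∃ i, IsConj (t i) c) : numReg p C ≤ Fintype.card ι := by
  classical
  unfold numReg
  have hex : ∀ A : {A : ConjClasses C // ∀ c : C, ConjClasses.mk c = A → ¬ p ∣ orderOf c},
      ∃ i, ConjClasses.mk (t i) = A.1 := by
    rintro ⟨A, hA⟩
    obtain ⟨c, rfl⟩ := ConjClasses.exists_rep A
    obtain ⟨i, hi⟩ := ht c (hA c rfl)
    exact ⟨i, ConjClasses.mk_eq_mk_iff_isConj.2 hi⟩
  choose f hf using hex
  have hinj : Function.Injective f := fun A B hAB => by
    apply Subtype.ext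
    rw [← hf A, ← hf B, hAB]
  have hfin := Finite.of_injective f hinj
  have := Fintype.ofFinite {A : ConjClasses C // ∀ c : C, ConjClasses.mk c = A → ¬ p ∣ orderOf c}
  rw [Nat.card_eq_fintype_card]
  exact Fintype.card_le_of_injective f hinj

theorem orderOf_conj {C : Type*} [Group C] (c g : C) : orderOf (c * g * c⁻¹) = orderOf g := by
  have := orderOf_injective (MulAut.conj c).toMonoidHom (MulAut.conj c).injective g
  simpa using this

/-- Burnside-type count. -/
theorem sum_centralizer_eq {C : Type*} [Group C] [Fintype C] :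
    ∑ c : C, (if p ∣ orderOf c then 0 else Nat.card (Subgroup.centralizer ({c} : Set C))) =
      Nat.card C * numReg p C := by
  classical
  have := Fintype.ofFinite (ConjClasses C)
  rw [← Finset.sum_fiberwise (s := Finset.univ) (g := fun c : C => ConjClasses.mk c)]
  have key : ∀ A : ConjClasses C, (∑ c : C with ConjClasses.mk c = A,
      (if p ∣ orderOf c then 0 else Nat.card (Subgroup.centralizer ({c} : Set C)))) =
        if (∀ c : C, ConjClasses.mk c = A → ¬ p ∣ orderOf c) then Nat.card C else 0 := by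
    intro A
    obtain ⟨a, rfl⟩ := ConjClasses.exists_rep A
    have h1 : ∀ c ∈ Finset.univ.filter (fun c : C => ConjClasses.mk c = ConjClasses.mk a),
        (if p ∣ orderOf c then 0 else Nat.card (Subgroup.centralizer ({c} : Set C))) =
          if p ∣ orderOf a then 0 else Nat.card (Subgroup.centralizer ({a} : Set C)) := by
      intro c hc
      rw [Finset.mem_filter, ConjClasses.mk_eq_mk_iff_isConj] at hc
      obtain ⟨d, hd⟩ := isConj_iff.1 hc.2
      have h2 : orderOf c = orderOf a := by rw [← hd, orderOf_conj]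
      have h3 : Nat.card (Subgroup.centralizer ({c} : Set C)) =
          Nat.card (Subgroup.centralizer ({a} : Set C)) := by
        have e1 := Cfsg.Agent.S0145.card_centralizer_mul_card_class c
        have e2 := Cfsg.Agent.S0145.card_centralizer_mul_card_class a
        have e3 : (Finset.univ.filter (fun x : C => IsConj x c)) =
            Finset.univ.filter (fun x : C => IsConj x a) := by
          ext y
          simp only [Finset.mem_filter, Finset.mem_univ, true_and]
          exact ⟨fun h => h.trans hc.2, fun h => h.trans hc.2.symm⟩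
        rw [e3, ← e2] at e1
        have hpos : 0 < (Finset.univ.filter (fun x : C => IsConj x a)).card :=
          Finset.card_pos.2 ⟨a, by
            simp only [Finset.mem_filter, Finset.mem_univ, true_and]
            exact IsConj.refl a⟩
        exact Nat.eq_of_mul_eq_mul_right hpos e1
      rw [h2, h3]
    rw [Finset.sum_congr rfl h1, Finset.sum_const, smul_eq_mul]
    by_cases h : p ∣ orderOf a
    · rw [if_pos h, mul_zero, if_neg]
      intro h2
      exact h2 a rfl h
    · rw [if_neg h, if_pos]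
      · have e2 := Cfsg.Agent.S0145.card_centralizer_mul_card_class a
        rw [← e2, mul_comm]
        congr 2
        ext y
        simp only [Finset.mem_filter, Finset.mem_univ, true_and]
        rw [ConjClasses.mk_eq_mk_iff_isConj]
      · intro c hc
        rw [ConjClasses.mk_eq_mk_iff_isConj] at hc
        obtain ⟨d, hd⟩ := isConj_iff.1 hc
        rwa [← orderOf_conj d c, hd]
  rw [Finset.sum_congr rfl fun A _ => key A, ← Finset.sum_filter, Finset.sum_const, smul_eq_mul,
    mul_comm]
  congr 1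
  unfold numReg
  rw [Nat.card_eq_fintype_card, Fintype.card_subtype]

/-- The centralizer of `x ^ k * c`, `c` a `p'`-element of `C_G(x)`, `x` a `p`-element and `k`
prime to `|G|`. -/
theorem card_centralizer_mul (hx : ∃ j : ℕ, orderOf x = p ^ j) {k : ℕ}
    (hk : k.Coprime (Nat.card G)) (c : Subgroup.centralizer ({x} : Set G))
    (hc : ¬ p ∣ orderOf c) :
    Nat.card (Subgroup.centralizer ({x ^ k * (c : G)} : Set G)) =
      Nat.card (Subgroup.centralizer ({c} : Set (Subgroup.centralizer ({x} : Set G)))) := by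
  obtain ⟨j, hj⟩ := hx
  have hcomm : Commute x (c : G) := comm_coe x c
  have hcommk : Commute (x ^ k) (c : G) := hcomm.pow_left k
  have hordxk : orderOf (x ^ k) = p ^ j := by
    rw [← hj]
    exact Nat.Coprime.orderOf_pow (hk.symm.coprime_dvd_left (orderOf_dvd_natCard x))
  have hcop : (orderOf (x ^ k)).Coprime (orderOf (c : G)) := by
    rw [hordxk, Subgroup.orderOf_coe]
    exact Nat.Coprime.pow_left j ((Nat.Prime.coprime_iff_not_dvd hp.out).2 hc)
  have key : ∀ g : G, g ∈ Subgroup.centralizer ({x ^ k * (c : G)} : Set G) ↔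
      g ∈ Subgroup.centralizer ({x} : Set G) ∧ g * c = c * g := by
    intro g
    rw [Subgroup.mem_centralizer_singleton_iff, Subgroup.mem_centralizer_singleton_iff]
    constructor
    · intro h
      have hg : Commute g (x ^ k * (c : G)) := h
      -- `x ^ k` and `c` are powers of the product
      have h1 : Commute g (x ^ k) := by
        have e1 : (x ^ k * (c : G)) ^ orderOf (c : G) = (x ^ k) ^ orderOf (c : G) := by
          rw [hcommk.mul_pow, pow_orderOf_eq_one, mul_one]
        have h2 : Commute g ((x ^ k) ^ orderOf (c : G)) := by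
          rw [← e1]; exact hg.pow_right _
        obtain ⟨m, hm⟩ := exists_pow_eq_self_of_coprime hcop.symm
        rw [← hm]
        exact h2.pow_right m
      have h2 : Commute g (c : G) := by
        have := h1.inv_right.mul_right hg
        simpa using this
      have h3 : Commute g x := by
        have hcop3 : k.Coprime (orderOf x) :=
          (hk.symm.coprime_dvd_left (orderOf_dvd_natCard x)).symm
        obtain ⟨m, hm⟩ := exists_pow_eq_self_of_coprime hcop3
        rw [← hm]
        exact h1.pow_right m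
      exact ⟨h3, h2⟩
    · rintro ⟨h1, h2⟩
      have h1' : Commute g x := h1
      have h2' : Commute g (c : G) := h2
      exact (h1'.pow_right k).mul_right h2'
  refine Nat.card_congr ⟨fun g => ⟨⟨g.1, ((key g.1).1 g.2).1⟩, ?_⟩,
    fun g => ⟨g.1.1, (key _).2 ⟨g.1.2, ?_⟩⟩, fun g => rfl, fun g => rfl⟩
  · rw [Subgroup.mem_centralizer_singleton_iff]
    apply Subtype.ext
    exact ((key g.1).1 g.2).2
  · have := Subgroup.mem_centralizer_singleton_iff.1 g.2
    exact congrArg Subtype.val this

theorem sum_RR [Fintype G] [Fintype (IrrCharacter G)] (hx : ∃ j : ℕ, orderOf x = p ^ j) {k : ℕ}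
    (hk : k.Coprime (Nat.card G)) :
    ∑ χ : IrrCharacter G, RR p (χ : G → ℂ) x k =
      (p ^ (Nat.card (Subgroup.centralizer ({x} : Set G))).factorization p *
        numReg p (Subgroup.centralizer ({x} : Set G)) : ℕ) := by
  classical
  unfold RR
  rw [← Finset.sum_div, Finset.sum_comm]
  have h1 : ∀ c : Subgroup.centralizer ({x} : Set G),
      (∑ χ : IrrCharacter G, if p ∣ orderOf c then (0 : ℝ) else
        ‖(χ : G → ℂ) (x ^ k * (c : G))‖ ^ 2) =
      ((if p ∣ orderOf c then 0 else Nat.card (Subgroup.centralizer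
        ({c} : Set (Subgroup.centralizer ({x} : Set G)))) : ℕ) : ℝ) := by
    intro c
    by_cases h : p ∣ orderOf c
    · simp [h]
    · simp only [h, if_false]
      rw [norm_irr_sum, card_centralizer_mul hx hk c h]
  simp only [h1]
  have hnp := np'_mul (C := Subgroup.centralizer ({x} : Set G)) (p := p)
  have hpos : ((np' p (Subgroup.centralizer ({x} : Set G)) : ℕ) : ℝ) ≠ 0 := by
    exact_mod_cast (np'_pos (C := Subgroup.centralizer ({x} : Set G)) (p := p)).ne'
  rw [← Nat.cast_sum, sum_centralizer_eq, div_eq_iff hpos]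
  rw [← Nat.cast_mul]
  congr 1
  calc Nat.card (Subgroup.centralizer ({x} : Set G)) * numReg p (Subgroup.centralizer ({x} : Set G))
      = p ^ (Nat.card (Subgroup.centralizer ({x} : Set G))).factorization p *
        np' p (Subgroup.centralizer ({x} : Set G)) *
        numReg p (Subgroup.centralizer ({x} : Set G)) := by rw [hnp]
    _ = _ := by ring

omit [Fintype (Subgroup.centralizer ({x} : Set G))] in
/-- **Bound.** `x` a `p`-element on which no irreducible character vanishes:
`k(G) ≤ |C_G(x)|_p * l(C_G(x))`. -/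
theorem card_conjClasses_le (hx : ∃ j : ℕ, orderOf x = p ^ j)
    (h : ∀ χ : IrrCharacter G, (χ : G → ℂ) x ≠ 0) :
    Nat.card (ConjClasses G) ≤
      p ^ (Nat.card (Subgroup.centralizer ({x} : Set G))).factorization p *
        numReg p (Subgroup.centralizer ({x} : Set G)) := by
  classical
  have := Fintype.ofFinite G
  have := Fintype.ofFinite (Subgroup.centralizer ({x} : Set G))
  have hfin := Cfsg.Agent.Characters.Core.finite_irr (G := G)
  have := Fintype.ofFinite (IrrCharacter G)
  have : NeZero (Nat.card G) := ⟨Nat.card_pos.ne'⟩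
  have h1 : ∀ χ : IrrCharacter G, (Fintype.card (ZMod (Nat.card G))ˣ : ℝ) ≤
      ∑ u : (ZMod (Nat.card G))ˣ, RR p (χ : G → ℂ) x (u : ZMod (Nat.card G)).val := fun χ =>
    card_le_sum_nonneg (galFam_FF (p := p) (x := x) (Cfsg.Agent.Characters.Core.isIrr_isCharacter χ.2))
      (RR_one_ne_zero (h χ)) (fun k => FF_eq_real _ k) (fun k => RR_nonneg _ k)
  have h2 := Finset.sum_le_sum (s := (Finset.univ : Finset (IrrCharacter G))) fun χ _ => h1 χ
  rw [Finset.sum_const, Finset.card_univ, Finset.sum_comm] at h2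
  have h3 : ∀ u : (ZMod (Nat.card G))ˣ, ∑ χ : IrrCharacter G,
      RR p (χ : G → ℂ) x (u : ZMod (Nat.card G)).val =
      (p ^ (Nat.card (Subgroup.centralizer ({x} : Set G))).factorization p *
        numReg p (Subgroup.centralizer ({x} : Set G)) : ℕ) := fun u =>
    sum_RR hx (ZMod.val_coe_unit_coprime u)
  simp only [h3] at h2
  rw [Finset.sum_const, Finset.card_univ, nsmul_eq_mul, nsmul_eq_mul,
    mul_comm (Fintype.card (ZMod (Nat.card G))ˣ : ℝ)] at h2
  have hpos : (0 : ℝ) < Fintype.card (ZMod (Nat.card G))ˣ := by exact_mod_cast Fintype.card_pos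
  have h4 := le_of_mul_le_mul_right h2 hpos
  have h5 : Fintype.card (IrrCharacter G) ≤
      p ^ (Nat.card (Subgroup.centralizer ({x} : Set G))).factorization p *
        numReg p (Subgroup.centralizer ({x} : Set G)) := by exact_mod_cast h4
  rw [← Cfsg.Agent.Characters.Core.card_irr, Nat.card_eq_fintype_card]
  exact h5

omit [Fintype (Subgroup.centralizer ({x} : Set G))] in
/-- **Criterion T2.** -/
theorem IM_of_count (hx : ∃ j : ℕ, orderOf x = p ^ j)
    (hlt : p ^ (Nat.card (Subgroup.centralizer ({x} : Set G))).factorization p *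
        numReg p (Subgroup.centralizer ({x} : Set G)) < Nat.card (ConjClasses G)) : IM p G := by
  by_contra hcon
  rw [not_IM_iff] at hcon
  refine absurd (card_conjClasses_le hx fun χ h0 => ?_) (not_le.2 hlt)
  exact hcon χ (Cfsg.Agent.S4558.result p (χ : G → ℂ) (Cfsg.Agent.Characters.Core.isIrr_isCharacter χ.2) x hx h0)

end main

end Cfsg.Agent.H593.IMCount
end

-- part: H593/IMCount2
section
set_option linter.all false
open scoped Cfsg.Agent.FastGrp

/-!
# Classes of `p'`-elements and `p`-group kernels; convenient forms of the counting criterion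
-/

set_option autoImplicit false
set_option linter.unusedSectionVars false

namespace Cfsg.Agent.H593.IMCount

open Cfsg Cfsg.Agent.H33

universe u

variable {C : Type*} [Group C] [Finite C] {K : Type*} [Group K] {p : ℕ} [hp : Fact p.Prime]

/-- `p'`-elements with the same image modulo a normal `p`-subgroup are conjugate. -/
theorem isConj_of_map (f : C →* K) (hker : IsPGroup p f.ker) {c c' : C} (hc : ¬ p ∣ orderOf c)
    (hc' : ¬ p ∣ orderOf c') (h : f c = f c') : IsConj c c' := by
  have htriv : ∀ a : C, ¬ p ∣ orderOf a → ∀ b ∈ Subgroup.zpowers a, f b = 1 → b = 1 := by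
    intro a ha b hb hfb
    obtain ⟨k, hk⟩ := (IsPGroup.iff_orderOf.1 hker) ⟨b, hfb⟩
    rw [← Subgroup.orderOf_coe] at hk
    have hk' : orderOf b = p ^ k := hk
    have h1 : orderOf b ∣ orderOf a := orderOf_dvd_of_mem_zpowers hb
    rcases Nat.eq_zero_or_pos k with rfl | hk0
    · rw [pow_zero, orderOf_eq_one_iff] at hk'
      exact hk'
    · exact absurd ((hk' ▸ dvd_pow_self p hk0.ne' : p ∣ orderOf b).trans h1) ha
  have hord : ∀ a : C, ¬ p ∣ orderOf a → orderOf (f a) = orderOf a := by
    intro a ha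
    refine Nat.dvd_antisymm (orderOf_map_dvd f a) ?_
    rw [orderOf_dvd_iff_pow_eq_one]
    apply htriv a ha _ (Subgroup.npow_mem_zpowers a _)
    rw [map_pow, pow_orderOf_eq_one]
  obtain ⟨n, hn⟩ := IsPGroup.iff_card.1 hker
  have hcop : (Nat.card (Subgroup.zpowers c)).Coprime (Nat.card f.ker) := by
    rw [Nat.card_zpowers, hn]
    exact (Nat.Coprime.pow_left n ((Nat.Prime.coprime_iff_not_dvd hp.out).2 hc)).symm
  have hnorm : Subgroup.zpowers c ≤ Subgroup.normalizer ((f.ker : Subgroup C) : Set C) := by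
    rw [Subgroup.normalizer_eq_top]
    exact le_top
  have hB : Subgroup.zpowers c' ≤ f.ker ⊔ Subgroup.zpowers c := by
    rw [Subgroup.zpowers_le]
    have h1 : c' = (c' * c⁻¹) * c := by group
    rw [h1]
    refine Subgroup.mul_mem_sup ?_ (Subgroup.mem_zpowers c)
    rw [MonoidHom.mem_ker, map_mul, map_inv, h, mul_inv_cancel]
  have hcard : Nat.card (Subgroup.zpowers c') = Nat.card (Subgroup.zpowers c) := by
    rw [Nat.card_zpowers, Nat.card_zpowers, ← hord c hc, ← hord c' hc', h]
  obtain ⟨d, hd, hdc⟩ := Cfsg.Agent.S0030.exists_conj_eq (Subgroup.zpowers c) f.ker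
    (Subgroup.zpowers c') hnorm hcop (Or.inl inferInstance) hB hcard
  rw [isConj_iff]
  refine ⟨d, ?_⟩
  have h1 : d * c * d⁻¹ ∈ Subgroup.zpowers c' := by
    rw [← hdc]
    exact Subgroup.smul_mem_pointwise_smul c (MulAut.conj d) _ (Subgroup.mem_zpowers c)
  have h2 : d * c * d⁻¹ * c'⁻¹ = 1 := by
    apply htriv c' hc' _ (Subgroup.mul_mem _ h1 (Subgroup.inv_mem _ (Subgroup.mem_zpowers c')))
    rw [map_mul, map_mul, map_mul, map_inv, map_inv, (MonoidHom.mem_ker).1 hd, h]
    group
  exact mul_inv_eq_one.1 h2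

/-- Modulo a normal `p`-subgroup the number of classes of `p'`-elements does not grow. -/
theorem numReg_le_of_surjective [Finite K] (f : C →* K) (hf : Function.Surjective f)
    (hker : IsPGroup p f.ker) : numReg p C ≤ numReg p K := by
  classical
  unfold numReg
  have hex : ∀ A : {A : ConjClasses C // ∀ c : C, ConjClasses.mk c = A → ¬ p ∣ orderOf c},
      ∃ c : C, ConjClasses.mk c = A.1 := fun A => ConjClasses.exists_rep A.1
  choose r hr using hex
  have hrr : ∀ A, ¬ p ∣ orderOf (r A) := fun A => A.2 _ (hr A)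
  refine Nat.card_le_card_of_injective (fun A => ⟨ConjClasses.mk (f (r A)), ?_⟩) ?_
  · intro c hc
    rw [ConjClasses.mk_eq_mk_iff_isConj] at hc
    obtain ⟨d, hd⟩ := isConj_iff.1 hc
    have h1 : orderOf c = orderOf (f (r A)) := by rw [← hd, orderOf_conj]
    rw [h1]
    exact fun h => hrr A (h.trans (orderOf_map_dvd f _))
  · intro A B hAB
    have h1 : ConjClasses.mk (f (r A)) = ConjClasses.mk (f (r B)) := congrArg Subtype.val hAB
    rw [ConjClasses.mk_eq_mk_iff_isConj] at h1
    obtain ⟨d, hd⟩ := isConj_iff.1 h1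
    obtain ⟨e, rfl⟩ := hf d
    have h2 : f (e * r A * e⁻¹) = f (r B) := by rw [map_mul, map_mul, map_inv, hd]
    have h3 := isConj_of_map f hker (by rw [orderOf_conj]; exact hrr A) (hrr B) h2
    apply Subtype.ext
    rw [← hr A, ← hr B, ConjClasses.mk_eq_mk_iff_isConj]
    exact (isConj_iff.2 ⟨e, rfl⟩ : IsConj (r A) (e * r A * e⁻¹)).trans h3

theorem numReg_le_card [Finite K] : numReg p K ≤ Nat.card (ConjClasses K) :=
  Nat.card_le_card_of_injective _ Subtype.val_injective

theorem numReg_eq_one (hC : IsPGroup p C) : numReg p C = 1 := by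
  apply le_antisymm
  · have h := numReg_le (p := p) (C := C) (fun _ : Unit => (1 : C)) (fun c hc => ⟨(), by
      obtain ⟨k, hk⟩ := IsPGroup.iff_orderOf.1 hC c
      rcases Nat.eq_zero_or_pos k with rfl | hk0
      · rw [pow_zero, orderOf_eq_one_iff] at hk
        rw [hk]
      · exact absurd (hk ▸ dvd_pow_self p hk0.ne') hc⟩)
    simpa using h
  · unfold numReg
    rw [Nat.one_le_iff_ne_zero]
    have : Nonempty {A : ConjClasses C // ∀ c : C, ConjClasses.mk c = A → ¬ p ∣ orderOf c} := by
      refine ⟨⟨ConjClasses.mk 1, fun c hc => ?_⟩⟩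
      rw [ConjClasses.mk_eq_mk_iff_isConj] at hc
      obtain ⟨d, hd⟩ := isConj_iff.1 hc
      have h1 : c = d⁻¹ * 1 * d := by rw [← hd]; group
      rw [h1, mul_one, inv_mul_cancel, orderOf_one, Nat.dvd_one]
      exact hp.out.one_lt.ne'
    exact Nat.card_pos.ne'

variable {G : Type u} [Group G] [Finite G]

/-- **T2, quotient form**: `f : C_G(x) → K` onto with `p`-group kernel and
`|C_G(x)|_p * k(K) < k(G)`. -/
theorem IM_of_count_surjective [Finite K] {x : G} (hx : ∃ j : ℕ, orderOf x = p ^ j)
    (f : Subgroup.centralizer ({x} : Set G) →* K) (hf : Function.Surjective f)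
    (hker : IsPGroup p f.ker)
    (hlt : p ^ (Nat.card (Subgroup.centralizer ({x} : Set G))).factorization p *
      numReg p K < Nat.card (ConjClasses G)) : IM p G := by
  refine IM_of_count hx (lt_of_le_of_lt ?_ hlt)
  exact Nat.mul_le_mul_left _ (numReg_le_of_surjective f hf hker)

end Cfsg.Agent.H593.IMCount
end
end
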