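import Mathlib
set_option linter.all false

/-!
# Splitting the rows of the integer matrix of a block with a Sylow subgroup of prime order

From an integer matrix whose rows are `±(1, …, 1)` or `±` a unit vector, with Gram matrix
`e J + 1`, and column relations `∑ a χ i * val χ g = 0`, we get the partition into non-exceptional
and exceptional rows together with the signs.
-/

set_option autoImplicit false

namespace Cfsg.Agent.H593.CyclicSplit

open scoped ComplexConjugate
open ZMod

theorem ite_cases {I Ω : Type*} [DecidableEq Ω] {a : I → Ω → ℤ} {c : I} (s : ℤ)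
    (h : ∃ i₀, ∀ i, a c i = if i = i₀ then s else 0) (hs : s ≠ 0)
    (hcard : ∀ i : Ω, ∃ j, j ≠ i) : ¬ ∀ i j, a c i = a c j := by
  obtain ⟨i₀, h⟩ := h
  intro hc
  obtain ⟨j, hj⟩ := hcard i₀
  have h1 := hc i₀ j
  rw [h, h, if_pos rfl, if_neg hj] at h1
  exact hs h1

/-- The splitting. -/
theorem split {I Ω Γ : Type*} [Fintype I] [Fintype Ω] [DecidableEq Ω] [Nonempty Ω] (e : ℕ)
    (a : I → Ω → ℤ)
    (hgram : ∀ i j, ∑ c, a c i * a c j = (e : ℤ) + if i = j then 1 else 0)
    (hcard : Fintype.card I = e + Fintype.card Ω)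
    (hrow : ∀ c, (∀ i, a c i = 1) ∨ (∀ i, a c i = -1) ∨
        (∃ i₀, ∀ i, a c i = if i = i₀ then 1 else 0) ∨
        (∃ i₀, ∀ i, a c i = if i = i₀ then -1 else 0))
    (val : I → Γ → ℂ) (o : Γ) (d : I → ℕ) (hd : ∀ c, 0 < d c) (ho : ∀ c, val c o = d c)
    (hval : ∀ i g, ∑ c, (a c i : ℂ) * val c g = 0) :
    ∃ (X Y : Set I) (εX : I → ℤ) (ε : ℤ), X ∪ Y = Set.univ ∧ Disjoint X Y ∧
      Nat.card X = e ∧ Nat.card Y = Fintype.card Ω ∧
      (∀ c ∈ X, (εX c = 1 ∨ εX c = -1) ∧ ∀ i, a c i = - εX c) ∧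
      (ε = 1 ∨ ε = -1) ∧ (∀ c ∈ Y, ∑ i, a c i = ε) ∧
      ∀ c ∈ Y, ∀ g, (ε : ℂ) * val c g = ∑ᶠ χ ∈ X, (εX χ : ℂ) * val χ g := by
  classical
  by_cases hΩ : Fintype.card Ω = 1
  · -- one column
    obtain ⟨i₀, hi₀⟩ := Fintype.card_eq_one_iff.1 hΩ
    have hpm : ∀ c, a c i₀ = 1 ∨ a c i₀ = -1 := by
      intro c
      rcases hrow c with h | h | ⟨j, h⟩ | ⟨j, h⟩
      · exact Or.inl (h _)
      · exact Or.inr (h _)
      · left; rw [h, if_pos (hi₀ j).symm]
      · right; rw [h, if_pos (hi₀ j).symm]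
    have hI : Nonempty I := by
      rw [← Fintype.card_pos_iff, hcard, hΩ]; omega
    obtain ⟨c₀⟩ := hI
    refine ⟨{c₀}ᶜ, {c₀}, fun c => - a c i₀, a c₀ i₀, Set.compl_union_self _, ?_, ?_, ?_, ?_, ?_, ?_, ?_⟩
    · exact disjoint_compl_left
    · rw [Nat.card_eq_fintype_card, Fintype.card_compl_set, hcard, hΩ]
      simp
    · rw [Nat.card_eq_fintype_card, hΩ]
      simp
    · intro c _
      refine ⟨?_, fun i => by rw [hi₀ i, neg_neg]⟩
      show - a c i₀ = 1 ∨ - a c i₀ = -1
      rcases hpm c with h | h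
      · right; rw [h]
      · left; rw [h, neg_neg]
    · exact hpm c₀
    · intro c hc
      rw [Set.mem_singleton_iff.1 hc]
      have : (Finset.univ : Finset Ω) = {i₀} := by
        ext i; simp [hi₀ i]
      rw [this, Finset.sum_singleton]
    · intro c hc g
      rw [Set.mem_singleton_iff.1 hc]
      have h1 := hval i₀ g
      rw [← Finset.add_sum_erase _ _ (Finset.mem_univ c₀)] at h1
      have h2 : ∑ᶠ χ ∈ ({c₀}ᶜ : Set I), ((- a χ i₀ : ℤ) : ℂ) * val χ g =
          ∑ χ ∈ Finset.univ.erase c₀, ((- a χ i₀ : ℤ) : ℂ) * val χ g := by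
        apply finsum_mem_eq_sum_of_inter_support_eq
        congr 1
        ext x
        simp
      rw [h2]
      have h3 : ∑ χ ∈ Finset.univ.erase c₀, ((- a χ i₀ : ℤ) : ℂ) * val χ g =
          - ∑ χ ∈ Finset.univ.erase c₀, ((a χ i₀ : ℤ) : ℂ) * val χ g := by
        rw [← Finset.sum_neg_distrib]
        refine Finset.sum_congr rfl fun χ _ => ?_
        push_cast
        ring
      rw [h3]
      linear_combination h1
  · -- at least two columns
    have hΩ2 : 1 < Fintype.card Ω := by
      have := Fintype.card_pos (α := Ω)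
      omega
    have hex : ∀ i : Ω, ∃ j, j ≠ i := by
      have : Nontrivial Ω := Fintype.one_lt_card_iff_nontrivial.1 hΩ2
      exact fun i => exists_ne i
    let X : Set I := {c | ∀ i j, a c i = a c j}
    have hXmem : ∀ c, c ∈ X ↔ ∀ i j, a c i = a c j := fun c => Iff.rfl
    have hX1 : ∀ c ∈ X, (∀ i, a c i = 1) ∨ (∀ i, a c i = -1) := by
      intro c hc
      rcases hrow c with h | h | h | h
      · exact Or.inl h
      · exact Or.inr h
      · exact absurd hc (ite_cases 1 h one_ne_zero hex)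
      · exact absurd hc (ite_cases (-1) h (by norm_num) hex)
    have hY1 : ∀ c, c ∉ X → ∃ (s : ℤ) (i₀ : Ω), (s = 1 ∨ s = -1) ∧
        ∀ i, a c i = if i = i₀ then s else 0 := by
      intro c hc
      rcases hrow c with h | h | ⟨i₀, h⟩ | ⟨i₀, h⟩
      · exact absurd (fun i j => by rw [h, h]) hc
      · exact absurd (fun i j => by rw [h, h]) hc
      · exact ⟨1, i₀, Or.inl rfl, h⟩
      · exact ⟨-1, i₀, Or.inr rfl, h⟩
    obtain ⟨i₁⟩ := ‹Nonempty Ω›
    obtain ⟨i₂, hi₂⟩ := hex i₁
    have hX2 : ∀ c ∈ X, ∀ i j, a c i * a c j = 1 := by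
      intro c hc i j
      rcases hX1 c hc with h | h
      · rw [h, h]; rfl
      · rw [h, h]; rfl
    -- the number of constant rows
    have hXc : ((Finset.univ.filter fun c => c ∈ X).card : ℤ) = e := by
      have h1 := hgram i₁ i₂
      rw [if_neg (Ne.symm hi₂), add_zero] at h1
      rw [← h1, Finset.card_filter, Nat.cast_sum]
      refine Finset.sum_congr rfl fun c _ => ?_
      by_cases hc : c ∈ X
      · rw [if_pos hc, hX2 c hc]; rfl
      · rw [if_neg hc]
        obtain ⟨s, i₀, _, h⟩ := hY1 c hc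
        rw [h, h]
        by_cases h3 : i₁ = i₀
        · rw [if_neg (fun h4 : i₂ = i₀ => hi₂ (h4.trans h3.symm)), mul_zero]; rfl
        · rw [if_neg h3, zero_mul]; rfl
    have hXc' : Nat.card X = e := by
      rw [Nat.card_eq_fintype_card, Fintype.card_subtype]
      exact_mod_cast hXc
    -- each column has exactly one exceptional row
    have hone : ∀ i : Ω, (Finset.univ.filter fun c => c ∉ X ∧ a c i ≠ 0).card = 1 := by
      intro i
      have h1 := hgram i i
      rw [if_pos rfl] at h1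
      have h2 : ∀ c, a c i * a c i = (if c ∈ X then (1 : ℤ) else 0) +
          (if c ∉ X ∧ a c i ≠ 0 then (1 : ℤ) else 0) := by
        intro c
        by_cases hc : c ∈ X
        · rw [if_pos hc, if_neg (fun h => h.1 hc), hX2 c hc, add_zero]
        · obtain ⟨s, i₀, hs, h⟩ := hY1 c hc
          rw [if_neg hc, zero_add]
          by_cases h3 : i = i₀
          · have h4 : a c i = s := by rw [h, if_pos h3]
            rw [h4, if_pos ⟨hc, by rcases hs with h | h <;> rw [h] <;> norm_num⟩]
            rcases hs with h | h <;> rw [h] <;> norm_num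
          · have h4 : a c i = 0 := by rw [h, if_neg h3]
            rw [h4, if_neg (fun h => h.2 rfl)]
            norm_num
      rw [Finset.sum_congr rfl fun c _ => h2 c, Finset.sum_add_distrib] at h1
      have h3 : ∑ c, (if c ∈ X then (1 : ℤ) else 0) = e := by
        rw [← hXc, Finset.card_filter, Nat.cast_sum]
        exact Finset.sum_congr rfl fun c _ => by split_ifs <;> rfl
      rw [h3] at h1
      have h4 : ∑ c, (if c ∉ X ∧ a c i ≠ 0 then (1 : ℤ) else 0) =
          ((Finset.univ.filter fun c => c ∉ X ∧ a c i ≠ 0).card : ℤ) := by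
        rw [Finset.card_filter, Nat.cast_sum]
        exact Finset.sum_congr rfl fun c _ => by split_ifs <;> rfl
      rw [h4] at h1
      have h5 : ((Finset.univ.filter fun c => c ∉ X ∧ a c i ≠ 0).card : ℤ) = 1 := by linarith
      exact_mod_cast h5
    -- the key relation
    have hkey : ∀ c, c ∉ X → ∀ (s : ℤ) (i₀ : Ω), (∀ i, a c i = if i = i₀ then s else 0) → s ≠ 0 →
        ∀ g, (s : ℂ) * val c g = ∑ χ ∈ Finset.univ.filter (fun c => c ∈ X),
          ((- a χ i₁ : ℤ) : ℂ) * val χ g := by
      intro c hc s i₀ h hs g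
      have h1 := hval i₀ g
      obtain ⟨c', hc'⟩ := Finset.card_eq_one.1 (hone i₀)
      have hcc' : c = c' := by
        have : c ∈ Finset.univ.filter fun c => c ∉ X ∧ a c i₀ ≠ 0 := by
          rw [Finset.mem_filter]
          exact ⟨Finset.mem_univ _, hc, by rw [h, if_pos rfl]; exact hs⟩
        rw [hc'] at this
        exact Finset.mem_singleton.1 this
      have h2 : ∀ χ : I, (a χ i₀ : ℂ) * val χ g =
          (if χ ∈ X then (a χ i₁ : ℂ) * val χ g else 0) +
          (if χ = c then (s : ℂ) * val c g else 0) := by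
        intro χ
        by_cases hχ : χ ∈ X
        · rw [if_pos hχ, if_neg (fun h4 : χ = c => hc (h4 ▸ hχ)), add_zero, hχ i₀ i₁]
        · rw [if_neg hχ, zero_add]
          by_cases hχc : χ = c
          · rw [if_pos hχc, hχc, h, if_pos rfl]
          · rw [if_neg hχc]
            have : a χ i₀ = 0 := by
              by_contra h0
              apply hχc
              have h3 : χ ∈ Finset.univ.filter fun c => c ∉ X ∧ a c i₀ ≠ 0 := by
                rw [Finset.mem_filter]
                exact ⟨Finset.mem_univ _, hχ, h0⟩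
              rw [hc'] at h3
              rw [hcc']
              exact Finset.mem_singleton.1 h3
            rw [this, Int.cast_zero, zero_mul]
      rw [Finset.sum_congr rfl fun χ _ => h2 χ, Finset.sum_add_distrib, Finset.sum_ite_eq',
        if_pos (Finset.mem_univ _), ← Finset.sum_filter] at h1
      have h3 : ∑ χ ∈ Finset.univ.filter (fun c => c ∈ X), ((- a χ i₁ : ℤ) : ℂ) * val χ g =
          - ∑ χ ∈ Finset.univ.filter (fun c => c ∈ X), ((a χ i₁ : ℤ) : ℂ) * val χ g := by
        rw [← Finset.sum_neg_distrib]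
        refine Finset.sum_congr rfl fun χ _ => ?_
        push_cast
        ring
      rw [h3]
      linear_combination h1
    -- the common sign
    have hYne : ∃ c, c ∉ X := by
      obtain ⟨c', hc'⟩ := Finset.card_eq_one.1 (hone i₁)
      have : c' ∈ Finset.univ.filter fun c => c ∉ X ∧ a c i₁ ≠ 0 := by
        rw [hc']; exact Finset.mem_singleton_self _
      exact ⟨c', (Finset.mem_filter.1 this).2.1⟩
    obtain ⟨c₀, hc₀⟩ := hYne
    obtain ⟨ε, j₀, hε, hrow₀⟩ := hY1 c₀ hc₀
    have hne0 : ∀ s : ℤ, (s = 1 ∨ s = -1) → s ≠ 0 := by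
      intro s hs; rcases hs with h | h <;> rw [h] <;> norm_num
    have hsign : ∀ c, c ∉ X → ∀ (s : ℤ) (i₀ : Ω), (s = 1 ∨ s = -1) →
        (∀ i, a c i = if i = i₀ then s else 0) → s = ε := by
      intro c hc s i₀ hs h
      have h1 := hkey c hc s i₀ h (hne0 s hs) o
      have h2 := hkey c₀ hc₀ ε j₀ hrow₀ (hne0 ε hε) o
      rw [← h2, ho, ho] at h1
      have h3 : s * (d c : ℤ) = ε * d c₀ := by exact_mod_cast h1
      have h4 : (0 : ℤ) < d c := by exact_mod_cast hd c
      have h5 : (0 : ℤ) < d c₀ := by exact_mod_cast hd c₀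
      rcases hs with rfl | rfl <;> rcases hε with rfl | rfl
      · rfl
      · exfalso; linarith
      · exfalso; linarith
      · rfl
    refine ⟨X, Xᶜ, fun c => - a c i₁, ε, Set.union_compl_self _, disjoint_compl_right, hXc', ?_,
      ?_, hε, ?_, ?_⟩
    · rw [Nat.card_eq_fintype_card, Fintype.card_compl_set, ← Nat.card_eq_fintype_card (α := X),
        hXc', hcard, Nat.add_sub_cancel_left]
    · intro c hc
      refine ⟨?_, fun i => by rw [neg_neg]; exact hc i i₁⟩
      show - a c i₁ = 1 ∨ - a c i₁ = -1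
      rcases hX1 c hc with h | h
      · right; rw [h]
      · left; rw [h, neg_neg]
    · intro c hc
      obtain ⟨s, i₀, hs, h⟩ := hY1 c hc
      rw [Finset.sum_congr rfl fun i _ => h i, Finset.sum_ite_eq', if_pos (Finset.mem_univ _)]
      exact hsign c hc s i₀ hs h
    · intro c hc g
      obtain ⟨s, i₀, hs, h⟩ := hY1 c hc
      have h1 := hkey c hc s i₀ h (hne0 s hs) g
      rw [hsign c hc s i₀ hs h] at h1
      rw [h1]
      symm
      apply finsum_mem_eq_sum_of_inter_support_eq
      congr 1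
      ext x
      simp

/-- Fourier inversion: recovering the coefficients from the values at nonzero points. -/
theorem inversion_units {p : ℕ} [hp : Fact p.Prime] (A : (ZMod p)ˣ → ℂ) (f : ZMod p → ℂ)
    (hf : ∀ m : ZMod p, m ≠ 0 → f m = ∑ i : (ZMod p)ˣ, A i * (stdAddChar ((i : ZMod p) * m) : ℂ))
    (j : (ZMod p)ˣ) :
    A j = (p : ℂ)⁻¹ * ∑ m : ZMod p, f m * ((stdAddChar (-((j : ZMod p) * m)) : ℂ) - 1) := by
  classical
  have hp0 : (p : ℂ) ≠ 0 := Nat.cast_ne_zero.2 hp.out.ne_zero
  have h1 : ∀ m : ZMod p, f m * ((stdAddChar (-((j : ZMod p) * m)) : ℂ) - 1) =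
      ∑ i : (ZMod p)ˣ, A i * ((stdAddChar (m * ((i : ZMod p) - (j : ZMod p))) : ℂ) -
        stdAddChar (m * (i : ZMod p))) := by
    intro m
    by_cases hm : m = 0
    · subst hm
      simp
    · rw [hf m hm, Finset.sum_mul]
      refine Finset.sum_congr rfl fun i _ => ?_
      have h2 : (stdAddChar (m * ((i : ZMod p) - (j : ZMod p))) : ℂ) =
          stdAddChar ((i : ZMod p) * m) * stdAddChar (-((j : ZMod p) * m)) := by
        rw [← AddChar.map_add_eq_mul]
        congr 1
        ring
      rw [h2, mul_comm m]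
      ring
  have hsum : ∀ b : ZMod p, ∑ m : ZMod p, (stdAddChar (m * b) : ℂ) =
      if b = 0 then (p : ℂ) else 0 := by
    intro b
    have h := AddChar.sum_mulShift (R := ZMod p) (R' := ℂ) (ψ := stdAddChar) b
      (ZMod.isPrimitive_stdAddChar p)
    rw [ZMod.card] at h
    rw [h]
    push_cast
    rfl
  rw [Finset.sum_congr rfl fun m _ => h1 m, Finset.sum_comm]
  have h3 : ∀ i : (ZMod p)ˣ, ∑ m : ZMod p, A i * ((stdAddChar (m * ((i : ZMod p) - (j : ZMod p))) : ℂ) -
        stdAddChar (m * (i : ZMod p))) = if i = j then A i * p else 0 := by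
    intro i
    rw [← Finset.mul_sum, Finset.sum_sub_distrib, hsum, hsum, if_neg (Units.ne_zero i), sub_zero]
    by_cases hij : i = j
    · rw [if_pos hij, if_pos (by rw [hij, sub_self])]
    · rw [if_neg hij, if_neg (fun h => hij (Units.ext (sub_eq_zero.1 h))), mul_zero]
  rw [Finset.sum_congr rfl fun i _ => h3 i, Finset.sum_ite_eq', if_pos (Finset.mem_univ _)]
  field_simp

end Cfsg.Agent.H593.CyclicSplit
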