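import Mathlib
import Cfsg.Agent.Blocks.CyclicUpper
import Cfsg.Agent.H593.CyclicSplit
import Cfsg.Prelude.Def_Blocks
import Cfsg.Agent.H593.D1Gram
import Cfsg.Agent.S0908
import Cfsg.Agent.S0914
set_option linter.all false

-- part: H593/D1Abs
section
/-!
# The integer matrix attached to functions on `ZMod p`
-/

set_option autoImplicit false
set_option linter.unusedSectionVars false

namespace Cfsg.Agent.H593.D1Abs

open scoped ComplexConjugate
open ZMod
open Cfsg.Agent.Blocks.CyclicComb Cfsg.Agent.Blocks.CyclicGram Cfsg.Agent.Blocks.CyclicUpper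

variable {p : ℕ} [hp : Fact p.Prime]

theorem sum_units_eq {A : Type*} [AddCommGroup A] (F : ZMod p → A) :
    ∑ i : (ZMod p)ˣ, F (i : ZMod p) = ∑ i : ZMod p, F i - F 0 := by
  classical
  rw [← Finset.sum_erase_add _ _ (Finset.mem_univ (0 : ZMod p)), add_sub_cancel_right]
  refine Finset.sum_bij (fun (i : (ZMod p)ˣ) _ => (i : ZMod p)) ?_ ?_ ?_ ?_
  · intro i _
    exact Finset.mem_erase.2 ⟨Units.ne_zero i, Finset.mem_univ _⟩
  · intro i _ j _ hij
    exact Units.ext hij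
  · intro i hi
    exact ⟨Units.mk0 i (Finset.mem_erase.1 hi).1, Finset.mem_univ _, rfl⟩
  · intro i _
    rfl

theorem sum_fiber {A : Type*} [AddCommGroup A] (H : Subgroup (ZMod p)ˣ)
    [Fintype ((ZMod p)ˣ ⧸ H)] (F : ((ZMod p)ˣ ⧸ H) → A) :
    ∑ i : (ZMod p)ˣ, F (QuotientGroup.mk i) = (Nat.card H) • ∑ ω, F ω := by
  classical
  rw [← Finset.sum_fiberwise Finset.univ (fun i : (ZMod p)ˣ => (QuotientGroup.mk i :
    (ZMod p)ˣ ⧸ H)), Finset.smul_sum]
  refine Finset.sum_congr rfl fun ω _ => ?_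
  have h6 : ∀ i ∈ Finset.univ.filter (fun i : (ZMod p)ˣ => (QuotientGroup.mk i :
      (ZMod p)ˣ ⧸ H) = ω), F (QuotientGroup.mk i) = F ω := fun i hi => by
    rw [(Finset.mem_filter.1 hi).2]
  rw [Finset.sum_congr rfl h6, Finset.sum_const]
  congr 1
  have h7 := QuotientGroup.card_preimage_mk H ({ω} : Set ((ZMod p)ˣ ⧸ H))
  rw [Nat.card_eq_fintype_card (α := ({ω} : Set ((ZMod p)ˣ ⧸ H)))] at h7
  simp only [Fintype.card_unique, mul_one] at h7
  rw [← h7, Nat.card_eq_card_toFinset]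
  congr 2
  ext i
  simp

theorem sum_std_units {m : ZMod p} (hm : m ≠ 0) :
    ∑ i : (ZMod p)ˣ, (stdAddChar ((i : ZMod p) * m) : ℂ) = -1 := by
  rw [sum_units_eq (fun i => (stdAddChar (i * m) : ℂ)), sum_std, if_neg hm, zero_mul,
    AddChar.map_zero_eq_one, zero_sub]

open scoped Classical in
theorem abs_structure (H : Subgroup (ZMod p)ˣ) {I : Type*} [Fintype I]
    [Fintype ((ZMod p)ˣ ⧸ H)]
    (f : I → ZMod p → ℂ) (mul : I → ZMod p → ℤ)
    (hmul : ∀ χ i, (p : ℂ)⁻¹ * ∑ m : ZMod p, f χ m * (stdAddChar (-(i * m)) : ℂ) = mul χ i)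
    (hg1 : ∀ m n : ZMod p, m ≠ 0 → n ≠ 0 → (∃ h ∈ H, n = (h : ZMod p) * m) →
      ∑ χ, f χ m * conj (f χ n) = (p : ℂ))
    (hg2 : ∀ m n : ZMod p, m ≠ 0 → n ≠ 0 → (¬ ∃ h ∈ H, n = (h : ZMod p) * m) →
      ∑ χ, f χ m * conj (f χ n) = 0)
    (hfinv : ∀ χ, ∀ h ∈ H, ∀ m : ZMod p, m ≠ 0 → f χ ((h : ZMod p) * m) = f χ m)
    (hnev : ∀ χ, ∃ m : ZMod p, m ≠ 0 ∧ f χ m ≠ 0)
    (hlow : Nat.card H + Nat.card ((ZMod p)ˣ ⧸ H) ≤ Nat.card I) :
    ∃ a : I → ((ZMod p)ˣ ⧸ H) → ℤ,
      Nat.card H * Nat.card ((ZMod p)ˣ ⧸ H) = p - 1 ∧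
      Nat.card I = Nat.card H + Nat.card ((ZMod p)ˣ ⧸ H) ∧
      (∀ χ, (∀ i, a χ i = 1) ∨ (∀ i, a χ i = -1) ∨
        (∃ i₀, ∀ i, a χ i = if i = i₀ then 1 else 0) ∨
        (∃ i₀, ∀ i, a χ i = if i = i₀ then -1 else 0)) ∧
      (∀ i j, ∑ χ, a χ i * a χ j = (Nat.card H : ℤ) + if i = j then 1 else 0) ∧
      (∀ (χ : I) (m : ZMod p), m ≠ 0 → f χ m =
        ∑ i : (ZMod p)ˣ, (a χ (QuotientGroup.mk i) : ℂ) * (stdAddChar ((i : ZMod p) * m) : ℂ)) ∧
      (∀ χ : I, ∑ m : (ZMod p)ˣ, f χ (m : ZMod p) = -((Nat.card H : ℂ) * ∑ ω, (a χ ω : ℂ))) := by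
  classical
  have hp0 : (p : ℂ) ≠ 0 := Nat.cast_ne_zero.2 hp.out.ne_zero
  have : Fintype H := Fintype.ofFinite _
  let Ω := (ZMod p)ˣ ⧸ H
  have hunits : Fintype.card (ZMod p)ˣ = p - 1 := ZMod.card_units p
  have hmulcard : Nat.card H * Nat.card Ω = p - 1 := by
    have := Subgroup.card_eq_card_quotient_mul_card_subgroup H
    rw [Nat.card_eq_fintype_card, hunits] at this
    rw [this, mul_comm]
  let c : I → ZMod p → ℤ := fun χ i => mul χ i - mul χ 0
  have hc : ∀ χ i, (c χ i : ℂ) =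
      (p : ℂ)⁻¹ * ∑ m : ZMod p, f χ m * ((stdAddChar (-(i * m)) : ℂ) - 1) := by
    intro χ i
    have h1 : (c χ i : ℂ) = (mul χ i : ℂ) - (mul χ 0 : ℂ) := by
      show ((mul χ i - mul χ 0 : ℤ) : ℂ) = _
      push_cast
      rfl
    rw [h1, ← hmul, ← hmul, ← mul_sub, ← Finset.sum_sub_distrib]
    congr 1
    refine Finset.sum_congr rfl fun m _ => ?_
    rw [zero_mul, neg_zero, AddChar.map_zero_eq_one, mul_sub]
  have hgram := gram H f c hc hg1 hg2
  have hcinv : ∀ χ, ∀ h ∈ H, ∀ i : ZMod p, c χ (i * (h : ZMod p)) = c χ i := by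
    intro χ h hh i
    have h1 : (c χ (i * (h : ZMod p)) : ℂ) = (c χ i : ℂ) := by
      rw [hc, hc]
      congr 1
      rw [← Equiv.sum_comp (Units.mulLeft h)
        (fun m => f χ m * ((stdAddChar (-(i * m)) : ℂ) - 1))]
      refine Finset.sum_congr rfl fun m _ => ?_
      rw [Units.mulLeft_apply, mul_assoc]
      by_cases hm : m = 0
      · rw [hm]
        simp
      · rw [hfinv χ h hh m hm]
    exact_mod_cast h1
  let a : I → Ω → ℤ := fun χ ω => c χ ((ω.out : (ZMod p)ˣ) : ZMod p)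
  have hca : ∀ χ (i : (ZMod p)ˣ), c χ (i : ZMod p) = a χ (QuotientGroup.mk i) := by
    intro χ i
    have h1 : (QuotientGroup.mk ((QuotientGroup.mk i : Ω).out) : Ω) = QuotientGroup.mk i :=
      QuotientGroup.out_eq' _
    rw [QuotientGroup.eq] at h1
    have h2 := hcinv χ _ h1 (((QuotientGroup.mk i : Ω).out : (ZMod p)ˣ) : ZMod p)
    rw [← Units.val_mul, mul_inv_cancel_left] at h2
    exact h2
  have hgrama : ∀ ω ω' : Ω, ∑ χ, a χ ω * a χ ω' =
      (Nat.card H : ℤ) + if ω = ω' then 1 else 0 := by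
    intro ω ω'
    have h1 := hgram ((ω.out : (ZMod p)ˣ) : ZMod p) ((ω'.out : (ZMod p)ˣ) : ZMod p)
      (Units.ne_zero _) (Units.ne_zero _)
    have h2 : ((Finset.univ.filter fun h : H => ((ω'.out : (ZMod p)ˣ) : ZMod p) *
        ((h : (ZMod p)ˣ) : ZMod p) = ((ω.out : (ZMod p)ˣ) : ZMod p)).card : ℤ) =
        if ω = ω' then 1 else 0 := by
      split_ifs with hω
      · subst hω
        have : (Finset.univ.filter fun h : H => ((ω.out : (ZMod p)ˣ) : ZMod p) *
          ((h : (ZMod p)ˣ) : ZMod p) = ((ω.out : (ZMod p)ˣ) : ZMod p)) = {1} := by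
          ext h
          simp only [Finset.mem_filter, Finset.mem_univ, true_and, Finset.mem_singleton]
          rw [← Units.val_mul, Units.val_inj, mul_eq_left]
          exact ⟨fun h => Subtype.ext h, fun h => by rw [h]; rfl⟩
        rw [this]
        simp
      · have : (Finset.univ.filter fun h : H => ((ω'.out : (ZMod p)ˣ) : ZMod p) *
          ((h : (ZMod p)ˣ) : ZMod p) = ((ω.out : (ZMod p)ˣ) : ZMod p)) = ∅ := by
          rw [Finset.filter_eq_empty_iff]
          intro h _ hh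
          rw [← Units.val_mul, Units.val_inj] at hh
          apply hω
          rw [← QuotientGroup.out_eq' ω, ← QuotientGroup.out_eq' ω', ← hh]
          refine (QuotientGroup.eq.2 ?_).symm
          rw [inv_mul_cancel_left]
          exact h.2
        rw [this]
        simp
    rw [← Nat.card_eq_fintype_card] at h1
    have h3 : ((∑ χ, a χ ω * a χ ω' : ℤ) : ℂ) =
        (((Nat.card H : ℤ) + if ω = ω' then 1 else 0 : ℤ) : ℂ) := by
      rw [← h2]
      push_cast
      exact h1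
    exact_mod_cast h3
  -- Fourier inversion
  have hinv : ∀ χ (m : ZMod p), ∑ i : ZMod p, (mul χ i : ℂ) * (stdAddChar (i * m) : ℂ) = f χ m := by
    intro χ m
    rw [← inversion (f χ) m]
    exact Finset.sum_congr rfl fun i _ => by rw [← hmul]
  have hc0 : ∀ χ, c χ 0 = 0 := fun χ => sub_self _
  have hval : ∀ (χ : I) (m : ZMod p), m ≠ 0 → f χ m =
        ∑ i : (ZMod p)ˣ, (a χ (QuotientGroup.mk i) : ℂ) *
          (stdAddChar ((i : ZMod p) * m) : ℂ) := by
    intro χ m hm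
    have h1 := hinv χ m
    have h2 : ∀ i : ZMod p, (mul χ i : ℂ) * (stdAddChar (i * m) : ℂ) =
        (c χ i : ℂ) * (stdAddChar (i * m) : ℂ) + (mul χ 0 : ℂ) * (stdAddChar (i * m) : ℂ) := by
      intro i
      rw [← add_mul]
      congr 1
      show _ = ((mul χ i - mul χ 0 : ℤ) : ℂ) + _
      push_cast
      ring
    rw [Finset.sum_congr rfl fun i _ => h2 i, Finset.sum_add_distrib, ← Finset.mul_sum,
      sum_std, if_neg hm, mul_zero, add_zero] at h1
    rw [← h1]
    have h3 := sum_units_eq (fun i : ZMod p => (c χ i : ℂ) * (stdAddChar (i * m) : ℂ))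
    simp only [hc0, Int.cast_zero, zero_mul, sub_zero] at h3
    rw [← h3]
    exact Finset.sum_congr rfl fun i _ => by rw [hca]
  have hne : ∀ χ, ∃ ω, a χ ω ≠ 0 := by
    intro χ
    by_contra hcon
    push Not at hcon
    obtain ⟨m, hm, hfm⟩ := hnev χ
    apply hfm
    rw [hval χ m hm]
    refine Finset.sum_eq_zero fun i _ => ?_
    rw [hcon, Int.cast_zero, zero_mul]
  have hnon : Nonempty Ω := ⟨QuotientGroup.mk 1⟩
  have hcomb := comb (Nat.card H) a hgrama hne (by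
    rw [← Nat.card_eq_fintype_card, ← Nat.card_eq_fintype_card]
    exact hlow)
  refine ⟨a, hmulcard, ?_, hcomb.2, hgrama, hval, ?_⟩
  · rw [Nat.card_eq_fintype_card, hcomb.1, ← Nat.card_eq_fintype_card (α := Ω)]
  · intro χ
    rw [Finset.sum_congr rfl fun (m : (ZMod p)ˣ) _ => hval χ m (Units.ne_zero m),
      Finset.sum_comm]
    have h1 : ∀ i : (ZMod p)ˣ, ∑ m : (ZMod p)ˣ, (a χ (QuotientGroup.mk i) : ℂ) *
        (stdAddChar ((i : ZMod p) * (m : ZMod p)) : ℂ) = -(a χ (QuotientGroup.mk i) : ℂ) := by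
      intro i
      rw [← Finset.mul_sum]
      have h2 : ∑ m : (ZMod p)ˣ, (stdAddChar ((i : ZMod p) * (m : ZMod p)) : ℂ) = -1 := by
        rw [← sum_std_units (Units.ne_zero i)]
        exact Finset.sum_congr rfl fun m _ => by rw [mul_comm]
      rw [h2, mul_neg_one]
    rw [Finset.sum_congr rfl fun i _ => h1 i, Finset.sum_neg_distrib,
      sum_fiber H (fun ω => (a χ ω : ℂ)), nsmul_eq_mul]

end Cfsg.Agent.H593.D1Abs
end

-- part: H593/D1Block
section
/-!
# Coefficient functions of the members of a block with defect group of order `p`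
-/

set_option autoImplicit false
set_option linter.unusedSectionVars false
set_option linter.unusedVariables false

namespace Cfsg.Agent.H593.D1Block

open Cfsg ZMod
open scoped ComplexConjugate
open Cfsg.Agent.Blocks.Local
open Cfsg.Agent.Blocks.Basic
open Cfsg.Agent.Blocks.CyclicGroup
open Cfsg.Agent.H593.D1Local
open Cfsg.Agent.H593.D1Char
open Cfsg.Agent.H593.D1Sec
open Cfsg.Agent.H593.D1Gram
open Cfsg.Agent.Characters.Core (isIrr_isCharacter isCharacter_apply_inv isIrr_comp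
  isCharacter_comp classInner_irr_self classInner_irr_ne isIrr_iff_classInner_self
  isIrr_isClassFunction finite_irr classFunction_eq_sum isCharacter_mul classInner_isNat)

theorem sum_coe_eq {J : Type*} [Fintype J] (B : Set J) [Fintype B] (F : J → ℂ)
    (hF : ∀ j, j ∉ B → F j = 0) : ∑ χ : B, F χ = ∑ j, F j := by
  classical
  rw [Finset.sum_set_coe]
  exact Finset.sum_subset (Finset.subset_univ _) fun j _ hj => hF j
    (fun h => hj (Set.mem_toFinset.2 h))

variable {G : Type*} [Group G] [Fintype G] {p : ℕ} [hp : Fact p.Prime] {P K : Subgroup G}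
  (h : Loc p P K)

section block

variable {M : Ideal AlgInt} [hMp : M.IsPrime] (hM : IsPModular p M) {B : Set (IrrCharacter G)}
  (hB : IsPBlock M B) (hBP : IsDefectGroup p M B P) {θ : IrrCharacter (LL P K)}
  (hind : IsInducedBlock M (Subgroup.centralizer (P : Set G))
      (blockOf M (infl h θ : Subgroup.centralizer (P : Set G) → ℂ)) B)

include hM hB hind

theorem DD_eq_zero [Fintype (LL P K)] {χ : IrrCharacter G} (hχ : χ ∉ B) {x : G} (hx : x ∈ P)
    (hx1 : x ≠ 1) : DD (θ : LL P K → ℂ) (χ : G → ℂ) x = 0 := by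
  by_contra hne
  apply hχ
  have h1 := induced_of_ne h hM hx hx1 (B := blockOf M (χ : G → ℂ)) ⟨χ, rfl⟩
    (mem_blockOf_self χ) hne
  rw [induced_unique hind h1]
  exact mem_blockOf_self χ

include hBP

theorem exists_cj [Fintype (LL P K)] {χ : IrrCharacter G} (hχ : χ ∈ B) {x : G} (hx : x ∈ P)
    (hx1 : x ≠ 1) (θ' : IrrCharacter (LL P K)) (hne : DD (θ' : LL P K → ℂ) (χ : G → ℂ) x ≠ 0) :
    ∃ k, θ' = cj h k θ := by
  have h1 := induced_of_ne h hM hx hx1 hB hχ hne
  obtain ⟨k, hk⟩ := conj_of_induced h hM hB hBP hind h1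
  refine ⟨k, Subtype.ext (funext fun l => ?_)⟩
  rw [cj_apply]
  exact hk l

theorem apply_eq [Fintype K] [Fintype (LL P K)] {χ : IrrCharacter G} (hχ : χ ∈ B) {x : G}
    (hx : x ∈ P) (hx1 : x ≠ 1) (l : LL P K) :
    (Nat.card (stab h θ) : ℂ) * (χ : G → ℂ) (x * ((l : K) : G)) =
      ∑ k : K, DD (θ : LL P K → ℂ) (χ : G → ℂ) ((k : G) * x * (k : G)⁻¹) *
        (θ : LL P K → ℂ) ⟨k * l * k⁻¹, h.normal.conj_mem l l.2 k⟩ :=
  apply_mul_eq h θ hx (exists_cj h hM hB hBP hind hχ hx hx1) l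

theorem apply_eq_one [Fintype K] [Fintype (LL P K)] {χ : IrrCharacter G} (hχ : χ ∈ B) {x : G}
    (hx : x ∈ P) (hx1 : x ≠ 1) :
    (Nat.card (stab h θ) : ℂ) * (χ : G → ℂ) x = (θ : LL P K → ℂ) 1 *
      ∑ k : K, DD (θ : LL P K → ℂ) (χ : G → ℂ) ((k : G) * x * (k : G)⁻¹) := by
  have h1 := apply_eq h hM hB hBP hind hχ hx hx1 1
  have h2 : x * (((1 : LL P K) : K) : G) = x := by simp
  rw [h2] at h1
  rw [h1, Finset.mul_sum]
  refine Finset.sum_congr rfl fun k _ => ?_
  have h3 : (⟨k * ((1 : LL P K) : K) * k⁻¹, h.normal.conj_mem _ (1 : LL P K).2 k⟩ : LL P K) = 1 :=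
    Subtype.ext (by simp)
  rw [h3, mul_comm]

omit hBP in
theorem sum_block_eq [Fintype B] [Fintype (IrrCharacter G)] [Fintype (LL P K)]
    {x : G} (hx : x ∈ P) (hx1 : x ≠ 1) (F : IrrCharacter G → ℂ) :
    ∑ χ : B, F χ * conj (DD (θ : LL P K → ℂ) ((χ : IrrCharacter G) : G → ℂ) x) =
      ∑ χ : IrrCharacter G, F χ * conj (DD (θ : LL P K → ℂ) (χ : G → ℂ) x) := by
  refine sum_coe_eq B (fun χ : IrrCharacter G => F χ * conj (DD (θ : LL P K → ℂ) (χ : G → ℂ) x))
    fun χ hχ => ?_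
  rw [DD_eq_zero h hM hB hind hχ hx hx1, map_zero, mul_zero]

omit hBP in
theorem gramB_eq [Fintype B] [Fintype (LL P K)] {x x' : G} (hx : x ∈ P) (hx1 : x ≠ 1)
    (hx' : x' ∈ P) (hk : ∃ k : K, cj h k θ = θ ∧ (k : G) * x * (k : G)⁻¹ = x') :
    ∑ χ : B, DD (θ : LL P K → ℂ) ((χ : IrrCharacter G) : G → ℂ) x' *
        conj (DD (θ : LL P K → ℂ) ((χ : IrrCharacter G) : G → ℂ) x) = p := by
  have := finite_irr (G := G)
  have := Fintype.ofFinite (IrrCharacter G)
  rw [sum_block_eq h hM hB hind hx hx1 (fun χ => DD (θ : LL P K → ℂ) (χ : G → ℂ) x'),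
    gram_eq h θ hx hx1 hx' hk]

omit hBP in
theorem gramB_ne [Fintype B] [Fintype (LL P K)] {x x' : G} (hx : x ∈ P) (hx1 : x ≠ 1)
    (hx' : x' ∈ P) (hk : ¬ ∃ k : K, cj h k θ = θ ∧ (k : G) * x * (k : G)⁻¹ = x') :
    ∑ χ : B, DD (θ : LL P K → ℂ) ((χ : IrrCharacter G) : G → ℂ) x' *
        conj (DD (θ : LL P K → ℂ) ((χ : IrrCharacter G) : G → ℂ) x) = 0 := by
  have := finite_irr (G := G)
  have := Fintype.ofFinite (IrrCharacter G)
  rw [sum_block_eq h hM hB hind hx hx1 (fun χ => DD (θ : LL P K → ℂ) (χ : G → ℂ) x'),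
    gram_ne h θ hx hx1 hx' hk]

omit hMp hind in
include h in
/-- In a block of defect one with `|G|_p = p`, no member vanishes on `P \ {1}`. -/
theorem exists_apply_ne (hG : (Nat.card G).factorization p = 1) {z : G} (hz : orderOf z = p)
    {χ : IrrCharacter G} (hχ : χ ∈ B) : ∃ m : ZMod p, m ≠ 0 ∧ (χ : G → ℂ) (u z m) ≠ 0 := by
  have hMp : M.IsPrime := hM.2.1.isPrime
  by_contra hcon
  push Not at hcon
  have hp0 : (p : ℂ) ≠ 0 := Nat.cast_ne_zero.2 hp.out.ne_zero
  obtain ⟨n, hn⟩ := Cfsg.Agent.Blocks.CyclicUpper.exists_mult χ hz 0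
  have h1 : ∑ m : ZMod p, (χ : G → ℂ) (u z m) * (stdAddChar (-(0 * m)) : ℂ) = (χ : G → ℂ) 1 := by
    rw [Finset.sum_eq_single (0 : ZMod p)]
    · rw [zero_mul, neg_zero, AddChar.map_zero_eq_one, mul_one, u_zero]
    · intro m _ hm
      rw [hcon m hm, zero_mul]
    · intro hh
      exact absurd (Finset.mem_univ _) hh
  rw [h1] at hn
  have h2 : (χ : G → ℂ) 1 = ((p * n : ℕ) : ℂ) := by
    push_cast
    rw [← hn]
    field_simp
  have h3 : charDegree (χ : G → ℂ) = p * n := charDegree_of_eq h2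
  have hdpos := charDegree_pos χ.2
  have h4 : ¬ p ∣ Nat.card G / charDegree (χ : G → ℂ) := by
    intro hdvd
    obtain ⟨k, hk⟩ := Cfsg.Agent.Blocks.CyclicUpper.charDegree_dvd χ.2
    rw [hk, Nat.mul_div_cancel_left _ hdpos] at hdvd
    have h5 : p ^ 2 ∣ Nat.card G := by
      rw [hk, h3, sq]
      exact mul_dvd_mul (Dvd.intro _ rfl) hdvd
    have h7 : 2 ≤ (Nat.card G).factorization p :=
      (hp.out.pow_dvd_iff_le_factorization Nat.card_pos.ne').1 h5
    omega
  have h5 := (Cfsg.Agent.S0914.result p M hM χ).1 h4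
  have h6 : B = {χ} := by rw [isPBlock_eq_blockOf hB hχ, h5]
  have h7 := Cfsg.Agent.S0908.result p M hM B hB P hBP
  rw [h.card, blockDefect_def, h6, Set.image_singleton, csInf_singleton, hG] at h7
  have h8 : 1 ≤ (charDegree (χ : G → ℂ)).factorization p := by
    have h9 : p ^ 1 ∣ charDegree (χ : G → ℂ) := by
      rw [pow_one, h3]
      exact Dvd.intro _ rfl
    exact (hp.out.pow_dvd_iff_le_factorization hdpos.ne').1 h9
  have h9 : 1 - (charDegree (χ : G → ℂ)).factorization p = 0 := by omega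
  rw [h9, pow_zero] at h7
  exact hp.out.one_lt.ne' h7

end block

/-! ### Powers of a generator -/

section gen

variable {z : G} (hz : orderOf z = p) (hzP : z ∈ P)

include h hz hzP

theorem zpowers_eq : Subgroup.zpowers z = P := by
  have hle : Subgroup.zpowers z ≤ P := by
    rw [Subgroup.zpowers_le]; exact hzP
  apply Subgroup.eq_of_le_of_card_ge hle
  rw [h.card, Nat.card_zpowers, hz]

theorem u_mem_P (m : ZMod p) : u z m ∈ P := by
  have := u_mem z m
  rwa [zpowers_eq h hz hzP] at this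

theorem exists_conj_u (k : K) : ∃ c : (ZMod p)ˣ, ∀ m : ZMod p,
    (k : G) * u z m * (k : G)⁻¹ = u z ((c : ZMod p) * m) := by
  have h1 : (k : G) * z * (k : G)⁻¹ ∈ Subgroup.zpowers z := by
    rw [zpowers_eq h hz hzP]
    exact h.conj_mem k hzP
  obtain ⟨c, hc⟩ := exists_u_of_mem hz h1
  have hc0 : c ≠ 0 := by
    rintro rfl
    rw [u_zero] at hc
    have hz1 : z ≠ 1 := by
      rintro rfl
      rw [orderOf_one] at hz
      exact hp.out.one_lt.ne hz
    exact h.conj_ne_one (k : G) hz1 hc.symm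
  refine ⟨Units.mk0 c hc0, fun m => ?_⟩
  rw [Units.val_mk0, u_mul hz, hc, conj_pow]
  rfl

/-- Conjugation by `K` permutes the nontrivial powers of `z`. -/
theorem sum_conj_u (k : K) (F : G → ℂ) :
    ∑ m : (ZMod p)ˣ, F ((k : G) * u z (m : ZMod p) * (k : G)⁻¹) =
      ∑ m : (ZMod p)ˣ, F (u z (m : ZMod p)) := by
  obtain ⟨c, hc⟩ := exists_conj_u h hz hzP k
  refine Fintype.sum_equiv (Equiv.mulLeft c) _ _ fun m => ?_
  rw [hc, Equiv.coe_mulLeft, Units.val_mul]

/-- The hom from `ZMod p × L` to `G`. -/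
noncomputable def phi : Multiplicative (ZMod p) × LL P K →* G where
  toFun a := u z (Multiplicative.toAdd a.1) * ((a.2 : K) : G)
  map_one' := by
    show u z 0 * (((1 : LL P K) : K) : G) = 1
    rw [u_zero]
    simp
  map_mul' a b := by
    show u z (Multiplicative.toAdd a.1 + Multiplicative.toAdd b.1) *
      (((a.2 : K) : G) * ((b.2 : K) : G)) = _
    rw [u_add hz]
    have h1 := (h.comm (u_mem_P h hz hzP (Multiplicative.toAdd b.1)) (mem_LL.1 a.2.2)).eq
    calc u z (Multiplicative.toAdd a.1) * u z (Multiplicative.toAdd b.1) *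
          (((a.2 : K) : G) * ((b.2 : K) : G))
        = u z (Multiplicative.toAdd a.1) * (u z (Multiplicative.toAdd b.1) * ((a.2 : K) : G)) *
          ((b.2 : K) : G) := by group
      _ = u z (Multiplicative.toAdd a.1) * (((a.2 : K) : G) * u z (Multiplicative.toAdd b.1)) *
          ((b.2 : K) : G) := by rw [h1]
      _ = _ := by group

end gen

end Cfsg.Agent.H593.D1Block
end
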