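import Mathlib
import Cfsg.Prelude.Def_Characters
import Cfsg.Agent.Characters.Core
import Cfsg.Agent.OddOrderCharacters.InertiaAbelian
import Cfsg.Agent.S1489
import Cfsg.Agent.S0886
import Cfsg.Agent.Blocks.CyclicLower2
import Cfsg.Agent.Blocks.CyclicAssembly
import Cfsg.Prelude.Def_Blocks
import Cfsg.Agent.Blocks.Local
import Cfsg.Agent.Blocks.Basic
import Cfsg.Agent.Blocks.ConvCentral
import Cfsg.Agent.Blocks.CliffordCentral
import Cfsg.Agent.Blocks.DefectCard
import Cfsg.Agent.H593.GlaubermanP
import Cfsg.Agent.Blocks.BlockRank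
import Cfsg.Agent.H593.D1Block3
set_option linter.all false

-- part: H593/D1Over
section
/-!
# The irreducible characters over a character with cyclic inertia quotient
-/

set_option autoImplicit false
set_option linter.unusedSectionVars false

namespace Cfsg.Agent.H593.D1Over

open Cfsg
open Cfsg.Agent.Characters.Core
open Cfsg.Agent.OddOrderCharacters.InertiaAbelian (exists_decomp frobenius_normal frobenius
  indFun_smul_sum indFun_trans)

/-- If `θ ∈ Irr(L)` has inertia group `T` in `K` with `T / L` cyclic, there are `|T : L|`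
irreducible characters of `K` over `θ`. -/
theorem exists_over {K : Type*} [Group K] [Fintype K] (L T : Subgroup K) [hL : L.Normal]
    [Fintype L] (θ : L → ℂ) (hθ : IsIrrCharacter L θ)
    (hT : ∀ g : K, g ∈ T ↔ ∀ h : L, θ ⟨g * h * g⁻¹, hL.conj_mem h h.2 g⟩ = θ h) (hLT : L ≤ T)
    (hab : ∀ x ∈ T, ∀ y ∈ T, x * y * x⁻¹ * y⁻¹ ∈ L)
    (hcyc : IsCyclic (T ⧸ L.subgroupOf T)) :
    ∃ S : Finset (K → ℂ), (∀ χ ∈ S, IsIrrCharacter K χ) ∧ S.card = (L.subgroupOf T).index ∧
      ∀ χ ∈ S, classInner θ (fun l : L => χ l) ≠ 0 := by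
  classical
  have := Fintype.ofFinite T
  have := Fintype.ofFinite (L.subgroupOf T)
  set θ' : L.subgroupOf T → ℂ := fun x => θ ⟨(x : T), Subgroup.mem_subgroupOf.mp x.2⟩ with hθ'
  have hθ'irr : IsIrrCharacter (L.subgroupOf T) θ' :=
    isIrr_comp (Subgroup.subgroupOfEquivOfLe hLT).toMonoidHom
      (Subgroup.subgroupOfEquivOfLe hLT).surjective hθ
  have hN : (L.subgroupOf T).Normal := inferInstance
  have hinv : ∀ t : T, ∀ n : L.subgroupOf T, θ' ⟨t * n * t⁻¹, hN.conj_mem n n.2 t⟩ = θ' n := by
    intro t n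
    exact (hT t).1 t.2 ⟨(n : T), Subgroup.mem_subgroupOf.mp n.2⟩
  have hab' : ∀ x y : T, x * y * x⁻¹ * y⁻¹ ∈ L.subgroupOf T := by
    intro x y
    rw [Subgroup.mem_subgroupOf]
    exact hab x x.2 y y.2
  obtain ⟨e, S, he, hSirr, -, -, hcard, hind, -⟩ := exists_decomp (L.subgroupOf T) θ' hθ'irr hinv
    hab'
  obtain ⟨ψ₀, hψ₀, hext⟩ := Cfsg.Agent.S0886.result (L.subgroupOf T) hcyc θ' hθ'irr hinv
  have hinn : ∀ ψ : T → ℂ, IsIrrCharacter T ψ →
      classInner (indFun (L.subgroupOf T) θ') ψ = if ψ ∈ S then (e : ℂ) else 0 := by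
    intro ψ hψ
    rw [hind, classInner_smul_left, classInner_sum_left]
    have h1 : ∀ ψ' ∈ S, classInner ψ' ψ = if ψ' = ψ then 1 else 0 := by
      intro ψ' hψ'
      split_ifs with h
      · rw [h]; exact classInner_irr_self hψ
      · exact classInner_irr_ne (hSirr ψ' hψ') hψ h
    rw [Finset.sum_congr rfl h1, Finset.sum_ite_eq']
    split_ifs <;> simp
  have he1 : e = 1 := by
    have h1 := hinn ψ₀ hψ₀
    rw [frobenius_normal _ _ hinv] at h1
    have h2 : (fun n : L.subgroupOf T => ψ₀ n) = θ' := funext hext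
    rw [h2, classInner_irr_self hθ'irr] at h1
    split_ifs at h1 with h
    · exact_mod_cast h1.symm
    · exact absurd h1 one_ne_zero
  subst he1
  have hc : ∀ ψ ∈ S, classInner (indFun (L.subgroupOf T) θ') ψ ≠ 0 := by
    intro ψ hψ
    rw [hinn ψ (hSirr ψ hψ), if_pos hψ]
    simp
  have hbij : ∀ ψ ∈ S, ∀ ψ' ∈ S, IsIrrCharacter K (indFun T ψ) ∧
      (indFun T ψ = indFun T ψ' → ψ = ψ') := by
    intro ψ hψ ψ' hψ'
    exact Cfsg.Agent.S1489.result L T θ hθ hT hLT ψ ψ' (hSirr ψ hψ) (hSirr ψ' hψ') (hc ψ hψ)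
      (hc ψ' hψ')
  refine ⟨S.image (fun ψ => indFun T ψ), ?_, ?_, ?_⟩
  · intro χ hχ
    obtain ⟨ψ, hψ, rfl⟩ := Finset.mem_image.1 hχ
    exact (hbij ψ hψ ψ hψ).1
  · rw [Finset.card_image_of_injOn]
    · rw [← hcard]; ring
    · intro ψ hψ ψ' hψ' h
      exact (hbij ψ hψ ψ' hψ').2 h
  · intro χ hχ
    obtain ⟨ψ, hψ, rfl⟩ := Finset.mem_image.1 hχ
    have hirr := (hbij ψ hψ ψ hψ).1
    rw [← frobenius L θ (indFun T ψ) (isIrr_isClassFunction hirr), ← indFun_trans L T hLT θ]
    change classInner (indFun T (indFun (L.subgroupOf T) θ')) (indFun T ψ) ≠ 0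
    rw [hind, indFun_smul_sum, classInner_smul_left, classInner_sum_left]
    have h1 : ∀ ψ' ∈ S, classInner (indFun T ψ') (indFun T ψ) = if ψ' = ψ then 1 else 0 := by
      intro ψ' hψ'
      split_ifs with h
      · rw [h]; exact classInner_irr_self hirr
      · exact classInner_irr_ne (hbij ψ' hψ' ψ hψ).1 hirr
          (fun h' => h ((hbij ψ' hψ' ψ hψ).2 h'))
    rw [Finset.sum_congr rfl h1, Finset.sum_ite_eq', if_pos hψ]
    simp

end Cfsg.Agent.H593.D1Over
end

-- part: H593/D1Good
section
/-!
# Good vectors attached to idempotents of a complement of `P` in its normalizer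

`F` is a field of characteristic `p`, `P` a subgroup of `G`, `K` a subgroup normalizing `P` with
`K ∩ P = 1`, and `kel K φ = ∑ φ(k) k` an element of `F[K]`.  A vector `v` of a module is *good* for
`ε = kel K φ` when it is fixed by `P` and by `ε` and is not in the image of the sum of the elements
of `P`.
-/

set_option autoImplicit false
set_option linter.unusedSectionVars false

namespace Cfsg.Agent.H593.D1Good

open MonoidAlgebra
open Cfsg.Agent.Blocks.CyclicLower Cfsg.Agent.Blocks.CyclicLower2 Cfsg.Agent.Blocks.CyclicLower3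

section Basic

variable {F : Type*} [Field F] {G : Type*} [Group G] {P K : Subgroup G}

/-- element of the group algebra of a subgroup -/
noncomputable def kel (K : Subgroup G) [Fintype K] (φ : K → F) : MonoidAlgebra F G :=
  ∑ k : K, φ k • el F (k : G)

theorem kel_def [Fintype K] (φ : K → F) : kel K φ = ∑ k : K, φ k • el F (k : G) := rfl

theorem kel_smul {V : Type*} [AddCommGroup V] [Module F V] [Module (MonoidAlgebra F G) V]
    [IsScalarTower F (MonoidAlgebra F G) V] [Fintype K] (φ : K → F) (v : V) :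
    kel K φ • v = ∑ k : K, φ k • (el F (k : G) • v) := by
  rw [kel_def, Finset.sum_smul]
  exact Finset.sum_congr rfl fun k _ => smul_assoc _ _ _

theorem kel_comm_tr [Finite G] [Fintype K] (hK : K ≤ Subgroup.normalizer (P : Set G))
    (φ : K → F) : kel K φ * tr P F = tr P F * kel K φ := by
  rw [kel_def, Finset.sum_mul, Finset.mul_sum]
  refine Finset.sum_congr rfl fun k _ => ?_
  rw [smul_mul_assoc, mul_smul_comm, el_comm_tr (hK k.2)]

theorem kel_mul_kel [Fintype K] (φ ψ : K → F) :
    kel K φ * kel K ψ = kel K (fun g => ∑ x : K, φ x * ψ (x⁻¹ * g)) := by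
  rw [kel_def, kel_def, kel_def, Finset.sum_mul_sum]
  simp only [Finset.sum_smul]
  rw [Finset.sum_comm (s := (Finset.univ : Finset K)) (t := (Finset.univ : Finset K))
    (f := fun g x => (φ x * ψ (x⁻¹ * g)) • el F (g : G))]
  refine Finset.sum_congr rfl fun x _ => ?_
  refine Fintype.sum_equiv (Equiv.mulLeft x) _ _ fun y => ?_
  rw [Equiv.coe_mulLeft, inv_mul_cancel_left, smul_mul_smul_comm, el_mul]
  rfl

variable {V : Type*} [AddCommGroup V] [Module F V] [Module (MonoidAlgebra F G) V]
  [IsScalarTower F (MonoidAlgebra F G) V]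

/-- An element normalizing `P` maps `P`-fixed vectors to `P`-fixed vectors. -/
theorem fixed_el {n : G} (hn : n ∈ Subgroup.normalizer (P : Set G)) {v : V}
    (hv : ∀ y ∈ P, el F y • v = v) : ∀ y ∈ P, el F y • (el F n • v) = el F n • v := by
  intro y hy
  have h1 : n⁻¹ * y * n ∈ P := by
    have := (Subgroup.mem_normalizer_iff.1 (inv_mem hn) y).1 hy
    rwa [inv_inv] at this
  have h2 : y * n = n * (n⁻¹ * y * n) := by group
  rw [smul_smul, el_mul, h2, ← el_mul, mul_smul, hv _ h1]

theorem fixed_kel [Fintype K] (hK : K ≤ Subgroup.normalizer (P : Set G)) (φ : K → F) {v : V}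
    (hv : ∀ y ∈ P, el F y • v = v) : ∀ y ∈ P, el F y • (kel K φ • v) = kel K φ • v := by
  intro y hy
  rw [kel_smul, Finset.smul_sum]
  refine Finset.sum_congr rfl fun k _ => ?_
  rw [smul_comm', fixed_el (hK k.2) hv y hy]

/-- `v` is fixed by `P`, by `ε`, and is not a trace from the trivial subgroup of `P`. -/
def Good [Finite G] (P : Subgroup G) (ε : MonoidAlgebra F G) (v : V) : Prop :=
  (∀ y ∈ P, el F y • v = v) ∧ ε • v = v ∧ ∀ a : V, tr P F • a ≠ v

variable {ε : MonoidAlgebra F G}

theorem Good.ne_zero [Finite G] {v : V} (h : Good P ε v) : v ≠ 0 := by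
  rintro rfl
  exact h.2.2 0 (smul_zero _)

/-- transport of good vectors along a linear equivalence -/
theorem Good.map [Finite G] {W : Type*} [AddCommGroup W] [Module F W]
    [Module (MonoidAlgebra F G) W] [IsScalarTower F (MonoidAlgebra F G) W]
    (e : V ≃ₗ[MonoidAlgebra F G] W) {v : V} (h : Good P ε v) : Good P ε (e v) := by
  refine ⟨fun y hy => ?_, ?_, fun a ha => ?_⟩
  · rw [← map_smul, h.1 y hy]
  · rw [← map_smul, h.2.1]
  · apply h.2.2 (e.symm a)
    apply e.injective
    rw [map_smul, e.apply_symm_apply, ha]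

end Basic

section Exists

variable {F : Type*} [Field F] {G : Type*} [Group G] [Finite G] {P K : Subgroup G}

/-- Any module with a good vector has a simple subquotient with a good vector. -/
theorem exists_simple_of_good [Fintype K] (hK : K ≤ Subgroup.normalizer (P : Set G)) {φ : K → F}
    (hid : kel K φ * kel K φ = kel K φ) (n : ℕ) :
    ∀ (V : Type*) [AddCommGroup V] [Module F V] [Module (MonoidAlgebra F G) V]
      [IsScalarTower F (MonoidAlgebra F G) V] [FiniteDimensional F V],
      Module.finrank F V = n → ∀ v : V, Good P (kel K φ) v →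
      ∃ L : Submodule (MonoidAlgebra F G) (MonoidAlgebra F G),
        IsSimpleModule (MonoidAlgebra F G) (MonoidAlgebra F G ⧸ L) ∧
        ∃ w : MonoidAlgebra F G ⧸ L, Good P (kel K φ) w := by
  induction n using Nat.strong_induction_on with
  | _ n ih =>
  intro V _ _ _ _ _ hn v hv
  by_cases hs : IsSimpleModule (MonoidAlgebra F G) V
  · -- simple: transport
    refine ⟨LinearMap.ker (LinearMap.toSpanSingleton (MonoidAlgebra F G) V v), ?_, ?_⟩
    · exact IsSimpleModule.congr ((LinearMap.toSpanSingleton (MonoidAlgebra F G) V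
        v).quotKerEquivOfSurjective (IsSimpleModule.toSpanSingleton_surjective _ hv.ne_zero))
    · exact ⟨_, hv.map ((LinearMap.toSpanSingleton (MonoidAlgebra F G) V
        v).quotKerEquivOfSurjective
          (IsSimpleModule.toSpanSingleton_surjective _ hv.ne_zero)).symm⟩
  · have hnt : Nontrivial V := ⟨v, 0, hv.ne_zero⟩
    have hex : ∃ L : Submodule (MonoidAlgebra F G) V, L ≠ ⊥ ∧ L ≠ ⊤ := by
      by_contra hcon
      push Not at hcon
      apply hs
      rw [isSimpleModule_iff]
      exact { eq_bot_or_eq_top := fun L => by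
                by_cases hL : L = ⊥
                · exact Or.inl hL
                · exact Or.inr (hcon L hL) }
    obtain ⟨L, hL0, hL1⟩ := hex
    have : FiniteDimensional F L :=
      inferInstanceAs (FiniteDimensional F (L.restrictScalars F))
    have hfin : Module.finrank F L + Module.finrank F (V ⧸ L) = Module.finrank F V := by
      have := Submodule.finrank_quotient_add_finrank (L.restrictScalars F)
      rw [add_comm]
      exact this
    have hLpos : 0 < Module.finrank F L := by
      have : Nontrivial L := Submodule.nontrivial_iff_ne_bot.2 hL0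
      exact Module.finrank_pos
    have hQpos : 0 < Module.finrank F (V ⧸ L) := by
      have : Nontrivial (V ⧸ L) := Submodule.Quotient.nontrivial_iff.2 hL1
      exact Module.finrank_pos
    by_cases hq : Good P (kel K φ) (L.mkQ v)
    · exact ih (Module.finrank F (V ⧸ L)) (by omega) (V ⧸ L) rfl _ hq
    · have heig : ∀ y ∈ P, el F y • L.mkQ v = L.mkQ v := by
        intro y hy
        rw [← map_smul, hv.1 y hy]
      have heps : kel K φ • L.mkQ v = L.mkQ v := by
        rw [← map_smul, hv.2.1]
      have hex2 : ∃ a : V ⧸ L, tr P F • a = L.mkQ v := by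
        by_contra hcon
        push Not at hcon
        exact hq ⟨heig, heps, hcon⟩
      obtain ⟨a', ha'⟩ := hex2
      obtain ⟨a, rfl⟩ := L.mkQ_surjective a'
      have hl : v - tr P F • a ∈ L := by
        rw [← map_smul, eq_comm] at ha'
        exact (Submodule.Quotient.eq L).1 ha'
      set l := v - tr P F • a with hldef
      have hlP : ∀ y ∈ P, el F y • l = l := by
        intro y hy
        rw [hldef, smul_sub, hv.1 y hy, smul_smul, el_mul_tr hy]
      have hl' : kel K φ • l ∈ L := L.smul_mem _ hl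
      have hE := fixed_kel (F := F) hK φ hlP
      by_cases hgl : Good P (kel K φ) (⟨kel K φ • l, hl'⟩ : L)
      · exact ih (Module.finrank F L) (by omega) L rfl _ hgl
      · exfalso
        have hex3 : ∃ b : L, tr P F • b = ⟨kel K φ • l, hl'⟩ := by
          by_contra hcon
          push Not at hcon
          refine hgl ⟨fun y hy => ?_, ?_, hcon⟩
          · apply Subtype.ext
            exact hE y hy
          · apply Subtype.ext
            show kel K φ • (kel K φ • l) = kel K φ • l
            rw [smul_smul, hid]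
        obtain ⟨b, hb⟩ := hex3
        have hb' : tr P F • (b : V) = kel K φ • l := congrArg Subtype.val hb
        apply hv.2.2 (kel K φ • a + (b : V))
        rw [smul_add, hb', hldef, smul_sub, hv.2.1, smul_smul, smul_smul, kel_comm_tr hK,
          add_sub_cancel]

theorem coeff_kel_of_notMem [Fintype K] (φ : K → F) {g : G} (hg : g ∉ K) :
    (kel K φ).coeff g = 0 := by
  rw [kel_def, coeff_sum, Finsupp.finsetSum_apply]
  refine Finset.sum_eq_zero fun k _ => ?_
  rw [coeff_smul_apply]
  change φ k • (single (k : G) (1 : F)).coeff g = 0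
  rw [coeff_single, Finsupp.single_eq_of_ne, smul_zero]
  rintro rfl
  exact hg k.2

theorem coeff_kel_of_mem [Fintype K] (φ : K → F) (k : K) :
    (kel K φ).coeff (k : G) = φ k := by
  rw [kel_def, coeff_sum, Finsupp.finsetSum_apply, Finset.sum_eq_single k]
  · rw [coeff_smul_apply]
    change φ k • (single (k : G) (1 : F)).coeff (k : G) = φ k
    rw [coeff_single, Finsupp.single_eq_same, smul_eq_mul, mul_one]
  · intro k' _ hk'
    rw [coeff_smul_apply]
    change φ k' • (single (k' : G) (1 : F)).coeff (k : G) = 0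
    rw [coeff_single, Finsupp.single_eq_of_ne, smul_zero]
    intro h
    exact hk' (Subtype.ext h).symm
  · intro h
    exact absurd (Finset.mem_univ _) h

/-- The module generated by `tr P * kel K φ` has a good vector. -/
theorem exists_good [Fintype K] (hK : K ≤ Subgroup.normalizer (P : Set G)) {φ : K → F}
    (hid : kel K φ * kel K φ = kel K φ) (hφ1 : φ 1 ≠ 0) (hKP : K ⊓ P = ⊥)
    (hP : (Nat.card P : F) = 0) :
    ∃ v : Submodule.span (MonoidAlgebra F G) {tr P F * kel K φ}, Good P (kel K φ) v := by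
  classical
  have : Fintype P := Fintype.ofFinite P
  refine ⟨⟨tr P F * kel K φ, Submodule.mem_span_singleton_self _⟩, fun y hy => ?_, ?_, ?_⟩
  · apply Subtype.ext
    show el F y * (tr P F * kel K φ) = tr P F * kel K φ
    rw [← mul_assoc, el_mul_tr hy]
  · apply Subtype.ext
    show kel K φ * (tr P F * kel K φ) = tr P F * kel K φ
    rw [← mul_assoc, kel_comm_tr hK, mul_assoc, hid]
  · rintro ⟨a, ha⟩ hEq
    obtain ⟨b, rfl⟩ := Submodule.mem_span_singleton.1 ha
    have h1 : tr P F * (b * (tr P F * kel K φ)) = tr P F * kel K φ := congrArg Subtype.val hEq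
    have hcomm : ∀ y ∈ P, tr P F * kel K φ * el F y = tr P F * kel K φ := by
      intro y hy
      rw [← kel_comm_tr hK, mul_assoc, ← el_comm_tr (Subgroup.le_normalizer hy), el_mul_tr hy]
    have h2 : (tr P F * (b * (tr P F * kel K φ))).coeff 1 = 0 := by
      rw [tr_def, Finset.sum_mul, coeff_sum, Finsupp.finsetSum_apply, ← tr_def]
      rw [Finset.sum_congr rfl (g := fun _ => (b * (tr P F * kel K φ)).coeff 1)]
      · rw [Finset.sum_const, Finset.card_univ, ← Nat.card_eq_fintype_card,
          ← Nat.cast_smul_eq_nsmul F, hP, zero_smul]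
      · intro y _
        rw [Cfsg.Agent.Blocks.CyclicLower4.coeff_one_comm, mul_assoc, hcomm y y.2]
    rw [h1] at h2
    apply hφ1
    rw [tr_def, Finset.sum_mul, coeff_sum, Finsupp.finsetSum_apply,
      Finset.sum_eq_single (1 : P)] at h2
    · have h3 : el F ((1 : P) : G) = 1 := el_one
      rw [h3, one_mul] at h2
      rw [← h2]
      exact (coeff_kel_of_mem φ (1 : K)).symm
    · intro y _ hy
      change (single (y : G) (1 : F) * kel K φ).coeff 1 = 0
      rw [coeff_single_mul_apply, one_mul, mul_one, coeff_kel_of_notMem]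
      intro hyK
      apply hy
      have h4 : ((y : G)⁻¹) ∈ K ⊓ P := ⟨hyK, P.inv_mem y.2⟩
      rw [hKP, Subgroup.mem_bot, inv_eq_one] at h4
      exact Subtype.ext h4
    · intro h
      exact absurd (Finset.mem_univ _) h

/-- For every idempotent there is a simple module with a good vector. -/
theorem exists_simple [Fintype K] (hK : K ≤ Subgroup.normalizer (P : Set G)) {φ : K → F}
    (hid : kel K φ * kel K φ = kel K φ) (hφ1 : φ 1 ≠ 0) (hKP : K ⊓ P = ⊥)
    (hP : (Nat.card P : F) = 0) :
    ∃ L : Submodule (MonoidAlgebra F G) (MonoidAlgebra F G),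
        IsSimpleModule (MonoidAlgebra F G) (MonoidAlgebra F G ⧸ L) ∧
        ∃ w : MonoidAlgebra F G ⧸ L, Good P (kel K φ) w := by
  obtain ⟨v, hv⟩ := exists_good hK hid hφ1 hKP hP
  have : FiniteDimensional F (Submodule.span (MonoidAlgebra F G) {tr P F * kel K φ}) :=
    inferInstanceAs (FiniteDimensional F
      ((Submodule.span (MonoidAlgebra F G) {tr P F * kel K φ}).restrictScalars F))
  exact exists_simple_of_good hK hid _ _ rfl v hv

end Exists

end Cfsg.Agent.H593.D1Good
end

-- part: H593/D1Uniq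
section
/-!
# Good vectors: a simple module is good for at most one idempotent
-/

set_option autoImplicit false
set_option linter.unusedSectionVars false

namespace Cfsg.Agent.H593.D1Good

open MonoidAlgebra
open Cfsg.Agent.Blocks.CyclicLower (el el_mul el_one out_smul tr tr_def el_mul_tr el_comm_tr
  smul_comm' reps mem_reps smul_mem_reps)
open Cfsg.Agent.Blocks.CyclicLower2 Cfsg.Agent.Blocks.CyclicLower3

variable {F : Type*} [Field F] {p : ℕ} [hp : Fact p.Prime]
  {G : Type*} [Group G] [Finite G] {P K : Subgroup G}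
  {V : Type*} [AddCommGroup V] [Module F V] [Module (MonoidAlgebra F G) V]
  [IsScalarTower F (MonoidAlgebra F G) V]

/-- The cosets of `P` in its normalizer are represented by the complement `K`. -/
theorem sum_reps [Fintype K] (hK : K ≤ Subgroup.normalizer (P : Set G)) (hKP : K ⊓ P = ⊥)
    (hN : ∀ n ∈ Subgroup.normalizer (P : Set G), ∃ k ∈ K, ∃ y ∈ P, n = k * y)
    {π : V →ₗ[F] V} (hπ : ∀ y ∈ P, ∀ s : V, π (el F y • s) = el F y • π s) (u : V) :
    ∑ q ∈ reps P, cj π q.out u = ∑ k : K, cj π (k : G) u := by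
  classical
  symm
  have hout : ∀ g : G, ∃ y ∈ P, (QuotientGroup.mk g : G ⧸ P).out = g * y := by
    intro g
    have h1 : (QuotientGroup.mk ((QuotientGroup.mk g : G ⧸ P).out) : G ⧸ P) = QuotientGroup.mk g :=
      QuotientGroup.out_eq' _
    rw [eq_comm, QuotientGroup.eq] at h1
    exact ⟨_, h1, by group⟩
  refine Finset.sum_bij (fun (k : K) _ => (QuotientGroup.mk (k : G) : G ⧸ P)) ?_ ?_ ?_ ?_
  · intro k _
    rw [mem_reps]
    obtain ⟨y, hy, hyk⟩ := hout (k : G)
    rw [hyk]
    exact mul_mem (hK k.2) (Subgroup.le_normalizer hy)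
  · intro k _ k' _ h
    rw [QuotientGroup.eq] at h
    have h1 : (k : G)⁻¹ * k' ∈ K ⊓ P := ⟨K.mul_mem (K.inv_mem k.2) k'.2, h⟩
    rw [hKP, Subgroup.mem_bot, inv_mul_eq_one] at h1
    exact Subtype.ext h1
  · intro q hq
    rw [mem_reps] at hq
    obtain ⟨k, hk, y, hy, hky⟩ := hN _ hq
    refine ⟨⟨k, hk⟩, Finset.mem_univ _, ?_⟩
    rw [← QuotientGroup.out_eq' q, QuotientGroup.eq, hky]
    simpa using hy
  · intro k _
    obtain ⟨y, hy, hyk⟩ := hout (k : G)
    rw [hyk, cj_mul_of_comm hπ _ hy]

/-- **Uniqueness.** -/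
theorem not_good_of_good [CharP F p] [IsAlgClosed F] [FiniteDimensional F V]
    [IsSimpleModule (MonoidAlgebra F G) V] (hP : Nat.card P = p) [Fintype K]
    (hK : K ≤ Subgroup.normalizer (P : Set G)) (hKP : K ⊓ P = ⊥)
    (hN : ∀ n ∈ Subgroup.normalizer (P : Set G), ∃ k ∈ K, ∃ y ∈ P, n = k * y)
    (hKF : (Nat.card K : F) ≠ 0) {φ ψ : K → F}
    (hort : ∀ k : K, kel K ψ * (el F (k : G) * kel K φ) = 0)
    {v w : V} (hv : Good P (kel K φ) v) (hw : Good P (kel K ψ) w) : False := by
  classical
  -- a generator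
  have hcyc : IsCyclic P := isCyclic_of_prime_card hP
  obtain ⟨⟨x, hxP⟩, hgen⟩ := hcyc.exists_generator
  have hPx : P = Subgroup.zpowers x := by
    ext y
    constructor
    · intro hy
      obtain ⟨k, hk⟩ := Subgroup.mem_zpowers_iff.1 (hgen ⟨y, hy⟩)
      exact Subgroup.mem_zpowers_iff.2 ⟨k, by simpa using congrArg Subtype.val hk⟩
    · intro hy
      obtain ⟨k, hk⟩ := Subgroup.mem_zpowers_iff.1 hy
      rw [← hk]; exact zpow_mem hxP k
  have hx : orderOf x = p := by
    rw [← Nat.card_zpowers, ← hPx, hP]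
  have htr : tr P F = (el F x - 1) ^ (p - 1) := tr_eq_pow x hx hPx
  set X := el F x - 1 with hXdef
  obtain ⟨h, v', hv'v, hmax⟩ := exists_height x hx hv.2.2
  rw [← hXdef] at hv'v hmax
  have hhp : h + 1 ≤ p - 1 := by
    by_contra hcon
    push Not at hcon
    have hle : p - 1 ≤ h := by omega
    apply hv.2.2 (X ^ (h - (p - 1)) • v')
    rw [htr, smul_smul, ← pow_add, Nat.add_sub_cancel' hle, hv'v]
  have hXv : X • v = 0 := by
    rw [hXdef, sub_smul, one_smul, hv.1 x hxP, sub_self]
  -- the subspace to be killed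
  let L : V →ₗ[F] V :=
    { toFun := fun a => X ^ (h + 1) • a
      map_add' := fun a b => smul_add _ _ _
      map_smul' := fun c a => smul_comm' _ _ _ }
  have hvW : v ∉ LinearMap.range L := by
    rintro ⟨a, ha⟩
    exact hmax a ha
  obtain ⟨f, hfv, hfW⟩ := Submodule.exists_dual_map_eq_bot_of_notMem hvW inferInstance
  have hfX : ∀ a : V, f (X ^ (h + 1) • a) = 0 := by
    intro a
    have h9 : f (X ^ (h + 1) • a) ∈ (LinearMap.range L).map f :=
      Submodule.mem_map_of_mem ⟨a, rfl⟩
    exact (Submodule.mem_bot F).1 (hfW ▸ h9)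
  have hftr : ∀ a : V, f (tr P F • a) = 0 := by
    intro a
    have : X ^ (p - 1) = X ^ (h + 1) * X ^ (p - 1 - (h + 1)) := by
      rw [← pow_add, Nat.add_sub_cancel' hhp]
    rw [htr, this, mul_smul]
    exact hfX _
  have hXv' : X ^ (h + 1) • v' = 0 := by
    rw [pow_succ', mul_smul, hv'v, hXv]
  let π := pi0 X h f v'
  -- values on fixed vectors
  have hπfix : ∀ u : V, (∀ y ∈ P, el F y • u = u) → π u = f u • v := by
    intro u hu
    have hu' : X • u = 0 := by
      rw [hXdef, sub_smul, one_smul, hu x hxP, sub_self]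
    change pi0 X h f v' u = _
    rw [pi0_apply, Finset.sum_range_succ', Finset.sum_eq_zero, zero_add, pow_zero, one_smul,
      Nat.sub_zero, hv'v]
    intro r _
    rw [pow_succ, mul_smul, hu', smul_zero, map_zero, zero_smul]
  -- π commutes with P
  have hπX : ∀ s, π (X • s) = X • π s := fun s => pi0_comm X h f v' s hfX hXv'
  have hπx : ∀ s, π (el F x • s) = el F x • π s := by
    intro s
    have h1 : el F x = X + 1 := by rw [hXdef, sub_add_cancel]
    rw [h1, add_smul, add_smul, map_add, hπX, one_smul, one_smul]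
  have hπpow : ∀ (k : ℕ) (s : V), π (el F (x ^ k) • s) = el F (x ^ k) • π s := by
    intro k
    induction k with
    | zero => intro s; rw [pow_zero, el_one, one_smul, one_smul]
    | succ k ih =>
      intro s
      rw [pow_succ, ← el_mul, mul_smul, mul_smul, ih, hπx]
  have hπ : ∀ y ∈ P, ∀ s : V, π (el F y • s) = el F y • π s := by
    intro y hy s
    rw [hPx] at hy
    obtain ⟨k, hk⟩ := (mem_powers_iff_mem_zpowers.2 hy : y ∈ Submonoid.powers x)
    have hk' : x ^ k = y := hk
    rw [← hk']
    exact hπpow k s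
  obtain ⟨θ, hθ⟩ := exists_trace hπ
  -- Schur
  obtain ⟨c, hc⟩ := (IsSimpleModule.algebraMap_end_bijective_of_isAlgClosed
    (A := MonoidAlgebra F G) (V := V) F).2 θ
  have hc' : ∀ s : V, θ s = c • s := by
    intro s
    rw [← hc]
    rfl
  -- the operator
  let act : G → V →ₗ[F] V := fun g =>
    { toFun := fun s => el F g • s
      map_add' := fun x y => smul_add _ _ _
      map_smul' := fun c x => smul_comm' _ _ _ }
  have hact : ∀ g s, act g s = el F g • s := fun _ _ => rfl
  let T : V →ₗ[F] V := ∑ k : K, (f ∘ₗ act (k : G)⁻¹).smulRight (el F (k : G) • v)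
  have hT : ∀ u, T u = ∑ k : K, f (el F (k : G)⁻¹ • u) • (el F (k : G) • v) := by
    intro u
    rw [LinearMap.sum_apply]
    rfl
  have hev : ∀ u : V, (∀ y ∈ P, el F y • u = u) → ∃ a : V, c • u = T u + tr P F • a := by
    intro u hu
    obtain ⟨a, ha⟩ := trace_apply (F := F) hP hπ hu
    refine ⟨a, ?_⟩
    rw [← hc', hθ, ha, sum_reps hK hKP hN hπ]
    congr 1
    rw [hT]
    refine Finset.sum_congr rfl fun k _ => ?_
    rw [cj_def, hπfix _ (fixed_el (F := F) (inv_mem (hK k.2)) hu), smul_comm']
  -- c = 0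
  have hc0 : c = 0 := by
    obtain ⟨a, ha⟩ := hev w hw.1
    by_contra hc0
    have h1 : kel K ψ • (c • w) = tr P F • (kel K ψ • a) := by
      rw [ha, smul_add, smul_smul (kel K ψ) (tr P F), kel_comm_tr hK, ← smul_smul (tr P F)]
      have h2 : kel K ψ • T w = 0 := by
        rw [hT, Finset.smul_sum]
        refine Finset.sum_eq_zero fun k _ => ?_
        rw [smul_comm', ← hv.2.1, smul_smul, smul_smul, mul_assoc, hort, zero_smul, smul_zero]
      rw [h2, zero_add]
    rw [smul_comm', hw.2.1] at h1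
    apply hw.2.2 (c⁻¹ • (kel K ψ • a))
    rw [smul_comm', ← h1, smul_smul, inv_mul_cancel₀ hc0, one_smul]
  -- T maps into fixed vectors
  have hTfix : ∀ u : V, ∀ y ∈ P, el F y • T u = T u := by
    intro u y hy
    rw [hT, Finset.smul_sum]
    refine Finset.sum_congr rfl fun k _ => ?_
    rw [smul_comm', fixed_el (F := F) (hK k.2) hv.1 y hy]
  have hTtr : ∀ a : V, T (tr P F • a) = 0 := by
    intro a
    rw [hT]
    refine Finset.sum_eq_zero fun k _ => ?_
    rw [smul_smul, el_comm_tr (inv_mem (hK k.2)), mul_smul, hftr, zero_smul]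
  have hT3 : T ^ 3 = 0 := by
    refine LinearMap.ext fun u => ?_
    rw [pow_succ, pow_two, Module.End.mul_apply, Module.End.mul_apply, LinearMap.zero_apply]
    obtain ⟨a, ha⟩ := hev (T u) (hTfix u)
    rw [hc0, zero_smul] at ha
    have h1 : T (T u) = tr P F • (-a) := by
      rw [smul_neg, eq_neg_iff_add_eq_zero]
      exact ha.symm
    rw [h1, hTtr]
  have htrace : LinearMap.trace F V T = (Nat.card K : F) * f v := by
    rw [map_sum]
    have h1 : ∀ k : K, LinearMap.trace F V ((f ∘ₗ act (k : G)⁻¹).smulRight (el F (k : G) • v)) =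
        f v := by
      intro k
      rw [LinearMap.trace_smulRight, LinearMap.comp_apply, hact, smul_smul, el_mul,
        inv_mul_cancel, el_one, one_smul]
    rw [Finset.sum_congr rfl fun k _ => h1 k, Finset.sum_const, nsmul_eq_mul,
      Nat.card_eq_fintype_card, Finset.card_univ]
  have hnil : IsNilpotent (LinearMap.trace F V T) :=
    LinearMap.isNilpotent_trace_of_isNilpotent ⟨3, hT3⟩
  rw [htrace] at hnil
  exact (mul_ne_zero hKF hfv) hnil.eq_zero

end Cfsg.Agent.H593.D1Good
end

-- part: H593/D1Central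
section
/-!
# Good vectors: central characters; irreducible representations attached to idempotents
-/

set_option autoImplicit false
set_option linter.unusedSectionVars false

namespace Cfsg.Agent.H593.D1Good

open MonoidAlgebra
open Cfsg.Agent.Blocks.CyclicLower (el el_mul el_one out_smul tr tr_def el_mul_tr el_comm_tr
  smul_comm' reps mem_reps smul_mem_reps)
open Cfsg.Agent.Blocks.CyclicLower2 Cfsg.Agent.Blocks.CyclicLower3
open Cfsg.Agent.Blocks.CyclicLower4 (exists_tr_of_free')

section Central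

variable {F : Type*} [Field F] {p : ℕ} [hp : Fact p.Prime]
  {G : Type*} [Group G] [Finite G] {P : Subgroup G}
  {V : Type*} [AddCommGroup V] [Module F V] [Module (MonoidAlgebra F G) V]
  [IsScalarTower F (MonoidAlgebra F G) V]

open Classical in
/-- A class function, as an element of the group algebra, acts on a simple module with a good
vector `v` as it acts on `v` after truncation to the centralizer of `P`. -/
theorem fun_smul [IsAlgClosed F] [Fintype G] [FiniteDimensional F V]
    [IsSimpleModule (MonoidAlgebra F G) V] (hP : Nat.card P = p) {ε : MonoidAlgebra F G}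
    {v : V} (hv : Good P ε v)
    (f : G → F) (hf : ∀ g h : G, f (h * g * h⁻¹) = f g) (ω : F)
    (hω : ∑ g ∈ Finset.univ.filter (fun g : G => g ∈ Subgroup.centralizer (P : Set G)),
      f g • (el F g • v) = ω • v) (s : V) :
    ∑ g : G, f g • (el F g • s) = ω • s := by
  have : Fintype P := Fintype.ofFinite P
  -- the operator
  let θ₀ : V →ₗ[F] V :=
    { toFun := fun s => ∑ g : G, f g • (el F g • s)
      map_add' := fun a b => by
        rw [← Finset.sum_add_distrib]
        exact Finset.sum_congr rfl fun g _ => by rw [smul_add, smul_add]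
      map_smul' := fun c a => by
        rw [RingHom.id_apply, Finset.smul_sum]
        exact Finset.sum_congr rfl fun g _ => by
          rw [smul_comm', smul_smul, smul_smul, mul_comm] }
  have hθ₀ : ∀ s, θ₀ s = ∑ g : G, f g • (el F g • s) := fun s => rfl
  let θ : V →ₗ[MonoidAlgebra F G] V :=
    MonoidAlgebra.equivariantOfLinearOfComm θ₀ fun h v => by
      change θ₀ (el F h • v) = el F h • θ₀ v
      rw [hθ₀, hθ₀, Finset.smul_sum]
      rw [← Equiv.sum_comp (MulAut.conj h).toEquiv]
      refine Finset.sum_congr rfl fun g _ => ?_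
      simp only [MulEquiv.toEquiv_eq_coe, EquivLike.coe_coe, MulAut.conj_apply]
      rw [hf, smul_comm', smul_smul, smul_smul, el_mul, el_mul]
      congr 3
      group
  have hθ : ∀ s, θ s = θ₀ s := fun s => rfl
  obtain ⟨c, hc⟩ := (IsSimpleModule.algebraMap_end_bijective_of_isAlgClosed
    (A := MonoidAlgebra F G) (V := V) F).2 θ
  have hc' : ∀ s : V, θ₀ s = c • s := by
    intro s
    rw [← hθ, ← hc]
    rfl
  -- elements outside the centralizer
  let act : P → G → G := fun y g => (y : G) * g * (y : G)⁻¹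
  have hact : ∀ (y : P) (g : G), act y g = (y : G) * g * (y : G)⁻¹ := fun _ _ => rfl
  have act1 : ∀ g, act 1 g = g := by intro g; rw [hact]; simp
  have act2 : ∀ y z g, act (y * z) g = act y (act z g) := by
    intro y z g
    rw [hact, hact, hact, Subgroup.coe_mul]
    group
  let D : Finset G := Finset.univ.filter (fun g : G => g ∉ Subgroup.centralizer (P : Set G))
  have hD : ∀ g : G, g ∈ D ↔ g ∉ Subgroup.centralizer (P : Set G) := by
    intro g
    exact Finset.mem_filter.trans ⟨fun h => h.2, fun h => ⟨Finset.mem_univ _, h⟩⟩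
  have hDs : ∀ (y : P) (d : G), d ∈ D → act y d ∈ D := by
    intro y d hd
    rw [hact]
    refine (hD _).2 fun hcen => (hD d).1 hd ?_
    have hyC : (y : G)⁻¹ * ((y : G) * d * (y : G)⁻¹) * (y : G) ∈
        Subgroup.centralizer (P : Set G) := by
      rw [Subgroup.mem_centralizer_iff] at hcen ⊢
      intro z hz
      have h1 := hcen ((y : G) * z * (y : G)⁻¹)
        (P.mul_mem (P.mul_mem y.2 hz) (P.inv_mem y.2))
      have h2 : (y : G)⁻¹ * ((y : G) * z * (y : G)⁻¹ * ((y : G) * d * (y : G)⁻¹)) * (y : G) =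
          (y : G)⁻¹ * ((y : G) * d * (y : G)⁻¹ * ((y : G) * z * (y : G)⁻¹)) * (y : G) :=
        congrArg (fun t => (y : G)⁻¹ * t * (y : G)) h1
      calc z * ((y : G)⁻¹ * ((y : G) * d * (y : G)⁻¹) * (y : G))
          = (y : G)⁻¹ * ((y : G) * z * (y : G)⁻¹ * ((y : G) * d * (y : G)⁻¹)) *
            (y : G) := by group
        _ = (y : G)⁻¹ * ((y : G) * d * (y : G)⁻¹ * ((y : G) * z * (y : G)⁻¹)) *
            (y : G) := h2
        _ = _ := by group
    have h3 : (y : G)⁻¹ * ((y : G) * d * (y : G)⁻¹) * (y : G) = d := by group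
    rw [h3] at hyC
    exact hyC
  have hDf : ∀ (y : P) (d : G), d ∈ D → act y d = d → y = 1 := by
    intro y d hd h
    by_contra hy
    apply (hD d).1 hd
    rw [hact] at h
    have hcomm : (y : G) * d = d * y := by
      conv_rhs => rw [← h]
      group
    have hgen : Subgroup.zpowers (y : G) = P := by
      apply Subgroup.eq_of_le_of_card_ge
      · rw [Subgroup.zpowers_le]; exact y.2
      · rw [Nat.card_zpowers, hP]
        have h3 : orderOf (y : G) = orderOf y := Subgroup.orderOf_coe y
        have h4 : orderOf y ∣ p := hP ▸ orderOf_dvd_natCard y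
        rcases (Nat.dvd_prime hp.out).1 h4 with h5 | h5
        · exact absurd (orderOf_eq_one_iff.1 h5) hy
        · rw [h3, h5]
    rw [Subgroup.mem_centralizer_iff]
    intro z hz
    have hz' : z ∈ Subgroup.zpowers (y : G) := by rw [hgen]; exact hz
    obtain ⟨k, rfl⟩ := Subgroup.mem_zpowers_iff.1 hz'
    exact (Commute.zpow_left (show Commute (y : G) d from hcomm) k)
  obtain ⟨a, ha⟩ := exists_tr_of_free' (F := F) (P := P) (V := V) act act1 act2 D hDs hDf
    (fun g => f g • (el F g • v))
    (fun y g hg => by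
      change f ((y : G) * g * (y : G)⁻¹) • (el F ((y : G) * g * (y : G)⁻¹) • v) = _
      rw [hf, ← el_mul, ← el_mul, mul_smul, hv.1 _ (inv_mem y.2), mul_smul, smul_comm'])
  -- evaluate on v
  have hev : c • v = ω • v + tr P F • a := by
    rw [← hc', hθ₀, ha, ← hω]
    exact (Finset.sum_filter_add_sum_filter_not Finset.univ
      (fun g : G => g ∈ Subgroup.centralizer (P : Set G)) _).symm
  have hceq : c = ω := by
    by_contra hne
    have hne' : c - ω ≠ 0 := sub_ne_zero.2 hne
    apply hv.2.2 ((c - ω)⁻¹ • a)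
    have h1 : (c - ω) • v = tr P F • a := by
      rw [sub_smul, hev, add_sub_cancel_left]
    rw [smul_comm', ← h1, smul_smul, inv_mul_cancel₀ hne', one_smul]
  rw [← hθ₀, hc', hceq]

open Classical in
/-- The truncation of a class function to the centralizer, on a good vector. -/
theorem sum_centralizer_smul {K : Subgroup G} [Fintype G] [Fintype K] [Fintype P]
    (hKP : K ⊓ P = ⊥) (hPC : P ≤ Subgroup.centralizer (P : Set G))
    (hC : ∀ c ∈ Subgroup.centralizer (P : Set G), ∃ k ∈ K, ∃ y ∈ P, c = k * y)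
    {v : V} (hv : ∀ y ∈ P, el F y • v = v) (f : G → F) :
    ∑ g ∈ Finset.univ.filter (fun g : G => g ∈ Subgroup.centralizer (P : Set G)),
      f g • (el F g • v) =
    kel K (fun k => if (k : G) ∈ Subgroup.centralizer (P : Set G) then ∑ y : P, f (k * y) else 0) •
      v := by
  rw [kel_smul]
  have h1 : ∀ k : K, (if (k : G) ∈ Subgroup.centralizer (P : Set G) then ∑ y : P, f (k * y)
      else 0) • (el F (k : G) • v) = if (k : G) ∈ Subgroup.centralizer (P : Set G) then
        ∑ y : P, f (k * y) • (el F (k : G) • v) else 0 := by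
    intro k
    split_ifs
    · rw [Finset.sum_smul]
    · rw [zero_smul]
  rw [Finset.sum_congr rfl fun k _ => h1 k, ← Finset.sum_filter, Finset.sum_sigma']
  symm
  refine Finset.sum_bij (fun (a : (_ : K) × P) _ => (a.1 : G) * a.2) ?_ ?_ ?_ ?_
  · rintro ⟨k, y⟩ h
    rw [Finset.mem_sigma, Finset.mem_filter] at h
    rw [Finset.mem_filter]
    exact ⟨Finset.mem_univ _, mul_mem h.1.2 (hPC y.2)⟩
  · rintro ⟨k, y⟩ _ ⟨k', y'⟩ _ h
    simp only at h
    have h2 : (k' : G)⁻¹ * k = y' * (y : G)⁻¹ := by
      rw [inv_mul_eq_iff_eq_mul, ← mul_assoc, ← h]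
      group
    have h3 : (k' : G)⁻¹ * k ∈ K ⊓ P :=
      ⟨K.mul_mem (K.inv_mem k'.2) k.2, by rw [h2]; exact P.mul_mem y'.2 (P.inv_mem y.2)⟩
    have h4 := h3
    rw [hKP, Subgroup.mem_bot] at h3
    have h5 : (k : G) = k' := (inv_mul_eq_one.1 h3).symm
    rw [h3] at h2
    have h6 : (y : G) = y' := (mul_inv_eq_one.1 h2.symm).symm
    obtain rfl : k = k' := Subtype.ext h5
    obtain rfl : y = y' := Subtype.ext h6
    rfl
  · intro c hc
    rw [Finset.mem_filter] at hc
    obtain ⟨k, hk, y, hy, hky⟩ := hC c hc.2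
    refine ⟨⟨⟨k, hk⟩, ⟨y, hy⟩⟩, ?_, hky.symm⟩
    rw [Finset.mem_sigma, Finset.mem_filter]
    refine ⟨⟨Finset.mem_univ _, ?_⟩, Finset.mem_univ _⟩
    have : k = c * y⁻¹ := by rw [hky]; group
    show k ∈ _
    rw [this]
    exact mul_mem hc.2 (inv_mem (hPC hy))
  · rintro ⟨k, y⟩ _
    simp only
    rw [← el_mul, mul_smul, hv y y.2]

end Central

open Classical in
/-- **Irreducible representations attached to orthogonal idempotents.** -/
theorem exists_reps {F : Type*} [Field F] [IsAlgClosed F] {p : ℕ} [hp : Fact p.Prime] [CharP F p]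
    {G : Type*} [Group G] [Fintype G] {P K : Subgroup G} [Fintype K] [Fintype P]
    (hP : Nat.card P = p)
    (hK : K ≤ Subgroup.normalizer (P : Set G)) (hKP : K ⊓ P = ⊥)
    (hN : ∀ n ∈ Subgroup.normalizer (P : Set G), ∃ k ∈ K, ∃ y ∈ P, n = k * y)
    (hKF : (Nat.card K : F) ≠ 0) {ι : Type*} (φ : ι → K → F)
    (hid : ∀ i, kel K (φ i) * kel K (φ i) = kel K (φ i))
    (hφ1 : ∀ i, φ i 1 ≠ 0)
    (hort : ∀ i j, i ≠ j → ∀ k : K, kel K (φ j) * (el F (k : G) * kel K (φ i)) = 0)
    {A : Type*} (f : A → G → F) (hf : ∀ a, ∀ g h : G, f a (h * g * h⁻¹) = f a g) (Ω : A → F)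
    (hcen : ∀ a i,
      kel K (fun k => if (k : G) ∈ Subgroup.centralizer (P : Set G) then ∑ y : P, f a (k * y)
        else 0) * kel K (φ i) = Ω a • kel K (φ i)) :
    ∃ (n : ι → ℕ) (ρ : ∀ i, Representation F G (Fin (n i) → F)),
      (∀ i, (ρ i).IsIrreducible) ∧
      (∀ i j, i ≠ j → IsEmpty (Representation.Equiv (ρ i) (ρ j))) ∧
      ∀ i a, ∑ h : G, f a h • ρ i h = Ω a • 1 := by
  have hPF : (Nat.card P : F) = 0 := by
    rw [hP]; exact CharP.cast_eq_zero F p
  have hPC : P ≤ Subgroup.centralizer (P : Set G) := by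
    intro y hy
    have hcyc : IsCyclic P := isCyclic_of_prime_card hP
    rw [Subgroup.mem_centralizer_iff]
    intro z hz
    have := hcyc.isMulCommutative.is_comm.comm (⟨z, hz⟩ : P) ⟨y, hy⟩
    exact congrArg Subtype.val this
  have hCN : ∀ c ∈ Subgroup.centralizer (P : Set G), c ∈ Subgroup.normalizer (P : Set G) := by
    intro g hg
    rw [Subgroup.mem_normalizer_iff]
    intro z
    constructor
    · intro hz
      have := Subgroup.mem_centralizer_iff.1 hg z hz
      rw [← this, mul_assoc, mul_inv_cancel, mul_one]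
      exact hz
    · intro hz
      have := Subgroup.mem_centralizer_iff.1 hg _ hz
      have h2 : g * z * g⁻¹ * g = g * z := by group
      rw [h2] at this
      have h3 := mul_left_cancel this
      rw [h3]
      exact hz
  choose L hL w hw using fun i => exists_simple hK (hid i) (hφ1 i) hKP hPF
  choose n ρ b hirr hb using fun i =>
    (have := hL i; Cfsg.Agent.Blocks.CyclicSimple.exists_rep (F := F) (G := G)
      (MonoidAlgebra F G ⧸ L i))
  refine ⟨n, ρ, hirr, ?_, ?_⟩
  · intro i j hij
    refine ⟨fun ψ => ?_⟩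
    let f : (MonoidAlgebra F G ⧸ L i) ≃ₗ[F] (MonoidAlgebra F G ⧸ L j) :=
      ((b i).trans ψ.toLinearEquiv).trans (b j).symm
    obtain ⟨E⟩ := Cfsg.Agent.Blocks.CyclicSimple.exists_linearEquiv (F := F) (G := G) f
      (fun g s => by
        apply (b j).injective
        rw [hb j]
        simp only [f, LinearEquiv.trans_apply, LinearEquiv.apply_symm_apply]
        rw [hb i]
        exact Representation.IntertwiningMap.isIntertwining _ _ ψ.toIntertwiningMap g (b i s))
    have hE : Good P (kel K (φ i)) (E (w i)) := (hw i).map E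
    have := hL j
    exact not_good_of_good (p := p) hP hK hKP hN hKF (hort i j hij) hE (hw j)
  · intro i a
    have := hL i
    have hfs := fun s => fun_smul (F := F) (p := p) (V := MonoidAlgebra F G ⧸ L i) hP (hw i)
      (f a) (hf a) (Ω a) (by
        rw [sum_centralizer_smul hKP hPC (fun c hc => hN c (hCN c hc)) (hw i).1 (f a)]
        conv_lhs => rw [← (hw i).2.1]
        rw [smul_smul, hcen a i, smul_assoc, (hw i).2.1]) s
    refine LinearMap.ext fun v => ?_
    obtain ⟨s, rfl⟩ := (b i).surjective v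
    rw [LinearMap.sum_apply, LinearMap.smul_apply, Module.End.one_apply, ← map_smul, ← hfs s,
      map_sum]
    refine Finset.sum_congr rfl fun x _ => ?_
    rw [map_smul, hb i, LinearMap.smul_apply]

end Cfsg.Agent.H593.D1Good
end

-- part: H593/D1Idem
section
/-!
# Idempotents of a `p'`-group modulo `p`, and the irreducible representations they define
-/

set_option autoImplicit false
set_option linter.unusedSectionVars false

namespace Cfsg.Agent.H593.D1Idem

open Cfsg
open scoped ComplexConjugate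
open Cfsg.Agent.Blocks.Local
open Cfsg.Agent.Blocks.ConvCentral (conv conv_apply lin lin_def)
open Cfsg.Agent.Blocks.Basic (irr_one_ne_zero irr_one_eq_charDegree charDegree_pos)
open Cfsg.Agent.Characters.Core
open Cfsg.Agent.H593.GlaubermanP (idem idem_apply lin_idem conv_idem charDegree_dvd)
open Cfsg.Agent.H593.D1Good
open Cfsg.Agent.Blocks.CyclicLower (el el_mul el_one)

section Local

variable {K : Type*} [Group K] [Fintype K] {p : ℕ} [hp : Fact p.Prime] {M : Ideal AlgInt}
  [hprime : M.IsPrime]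

theorem memLocalRing_irr (χ : IrrCharacter K) (g : K) : MemLocalRing M ((χ : K → ℂ) g) :=
  memLocalRing_algInt (M := M)
    ⟨(χ : K → ℂ) g, Cfsg.Agent.Blocks.DefectCard.isIntegral_irr χ.2 g⟩

theorem memLocalRing_idem (hM : IsPModular p M) (hK : ¬ p ∣ Nat.card K) (χ : IrrCharacter K)
    (g : K) : MemLocalRing M (idem χ g) := by
  rw [idem_apply, ← isCharacter_apply_inv (isIrr_isCharacter χ.2)]
  exact memLocalRing_mul (memLocalRing_inv_natCast hM hK)
    (memLocalRing_mul (memLocalRing_irr χ 1) (memLocalRing_irr χ g⁻¹))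

theorem redC_idem_one_ne_zero (hM : IsPModular p M) (hK : ¬ p ∣ Nat.card K)
    (χ : IrrCharacter K) : redC M (idem χ 1) ≠ 0 := by
  rw [Ne, redC_eq_zero_iff (memLocalRing_idem hM hK χ 1)]
  intro h
  have h1 : MemLocalIdeal M ((Nat.card K : ℂ) * idem χ 1) :=
    memLocalIdeal_mul_left (memLocalRing_natCast _) h
  rw [idem_apply, ← mul_assoc, mul_inv_cancel₀ (Nat.cast_ne_zero.2 Nat.card_pos.ne'), one_mul,
    irr_one_eq_charDegree χ.2, Complex.conj_natCast, ← Nat.cast_mul,
    memLocalIdeal_natCast_iff hM] at h1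
  rcases hp.out.dvd_mul.1 h1 with h2 | h2 <;>
    exact hK (h2.trans (charDegree_dvd χ.2))

theorem redC_conv {f g : K → ℂ} (hf : ∀ x, MemLocalRing M (f x)) (hg : ∀ x, MemLocalRing M (g x))
    (x : K) : redC M (conv f g x) = ∑ y : K, redC M (f y) * redC M (g (y⁻¹ * x)) := by
  rw [conv_apply, redC_sum fun y _ => memLocalRing_mul (hf y) (hg _)]
  exact Finset.sum_congr rfl fun y _ => redC_mul (hf y) (hg _)

end Local

section Kel

variable {F : Type*} [Field F] {G : Type*} [Group G] {K : Subgroup G} [Fintype K]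

theorem kel_comm_el {φ : K → F} (hφ : ∀ g h : K, φ (h * g * h⁻¹) = φ g) (k : K) :
    kel K φ * el F (k : G) = el F (k : G) * kel K φ := by
  rw [kel_def, Finset.sum_mul, Finset.mul_sum]
  refine (Fintype.sum_equiv (MulAut.conj k).toEquiv _ _ fun x => ?_).symm
  simp only [MulEquiv.toEquiv_eq_coe, EquivLike.coe_coe, MulAut.conj_apply]
  rw [hφ, mul_smul_comm, smul_mul_assoc, el_mul, el_mul]
  congr 2
  push_cast
  group

theorem kel_smul_fun (c : F) (φ : K → F) : kel K (fun k => c * φ k) = c • kel K φ := by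
  rw [kel_def, kel_def, Finset.smul_sum]
  exact Finset.sum_congr rfl fun k _ => mul_smul _ _ _

end Kel

section Main

variable {G : Type*} [Group G] [Fintype G] {p : ℕ} [hp : Fact p.Prime] {M : Ideal AlgInt}
  [hprime : M.IsPrime] {P K : Subgroup G} [Fintype K] [Fintype P]

theorem kel_mul_idem (hM : IsPModular p M) (hKp : ¬ p ∣ Nat.card K) {z : K → ℂ}
    (hz : IsClassFunction K z) (hzR : ∀ x, MemLocalRing M (z x)) (χ : IrrCharacter K)
    (hq : MemLocalRing M (lin (χ : K → ℂ) z / (χ : K → ℂ) 1)) :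
    kel K (fun k => redC M (z k)) * kel K (fun k => redC M (idem χ k)) =
      redC M (lin (χ : K → ℂ) z / (χ : K → ℂ) 1) • kel K (fun k => redC M (idem χ k)) := by
  rw [kel_mul_kel, ← kel_smul_fun]
  congr 1
  funext g
  have h1 := redC_conv hzR (memLocalRing_idem hM hKp χ) g
  rw [← h1, conv_idem χ hz, Pi.smul_apply, smul_eq_mul,
    redC_mul hq (memLocalRing_idem hM hKp χ g)]

open Classical in
theorem exists_block_reps (hM : IsPModular p M) (hP : Nat.card P = p)
    (hK : K ≤ Subgroup.normalizer (P : Set G)) (hKP : K ⊓ P = ⊥)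
    (hN : ∀ n ∈ Subgroup.normalizer (P : Set G), ∃ k ∈ K, ∃ y ∈ P, n = k * y)
    (hKp : ¬ p ∣ Nat.card K) {ι : Type*} (χ : ι → IrrCharacter K)
    (hχ : Function.Injective χ)
    (L : Subgroup K) [hLn : L.Normal] [Fintype L]
    (hL : ∀ k : K, k ∈ L ↔ (k : G) ∈ Subgroup.centralizer (P : Set G)) (θ : IrrCharacter L)
    (hθ : ∀ i, classInner (fun l : L => (χ i : K → ℂ) l) (θ : L → ℂ) ≠ 0) :
    ∃ (n : ι → ℕ) (ρ : ∀ i, Representation (ResField M) G (Fin (n i) → ResField M)),
      (∀ i, (ρ i).IsIrreducible) ∧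
      (∀ i j, i ≠ j → IsEmpty (Representation.Equiv (ρ i) (ρ j))) ∧
      ∀ i (g : G), ∑ h : G, (if IsConj g h then (1 : ResField M) else 0) • ρ i h =
        redC M ((∑ l : L, (∑ y : P, if IsConj g ((l : K) * y) then (1 : ℂ) else 0) *
          (θ : L → ℂ) l) / (θ : L → ℂ) 1) • 1 := by
  have hchar : CharP (ResField M) p := charP_resField hM
  have hmax : M.IsMaximal := hM.2.1
  have halg : IsAlgClosed (ResField M) := Cfsg.Agent.Blocks.CyclicAssembly.isAlgClosed_resField
  -- the class functions on `K`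
  let β : G → K → ℂ := fun g k => if k ∈ L then ∑ y : P, (if IsConj g ((k : G) * y) then 1 else 0)
    else 0
  have hβ : ∀ g k, β g k = if k ∈ L then ∑ y : P, (if IsConj g ((k : G) * y) then (1 : ℂ) else 0)
    else 0 := fun _ _ => rfl
  have hβR : ∀ g k, MemLocalRing M (β g k) := by
    intro g k
    rw [hβ]
    split_ifs
    · refine memLocalRing_sum fun y _ => ?_
      split_ifs
      · exact memLocalRing_one
      · exact memLocalRing_zero
    · exact memLocalRing_zero
  have hβc : ∀ g, IsClassFunction K (β g) := by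
    intro g k h
    rw [hβ, hβ]
    have h1 : h * k * h⁻¹ ∈ L ↔ k ∈ L := by
      constructor
      · intro h2
        have := hLn.conj_mem _ h2 h⁻¹
        simpa [mul_assoc] using this
      · intro h2
        exact hLn.conj_mem _ h2 h
    simp only [h1]
    split_ifs
    · have hh := Subgroup.mem_normalizer_iff.1 (hK h.2)
      let e : P ≃ P :=
        { toFun := fun y => ⟨(h : G) * y * (h : G)⁻¹, (hh y).1 y.2⟩
          invFun := fun y => ⟨(h : G)⁻¹ * y * h, (hh _).2 (by
            have : (h : G) * ((h : G)⁻¹ * (y : G) * h) * (h : G)⁻¹ = y := by group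
            rw [this]; exact y.2)⟩
          left_inv := fun y => by ext; simp only; group
          right_inv := fun y => by ext; simp only; group }
      symm
      refine Fintype.sum_equiv e _ _ fun y => ?_
      have h3 : ((h * k * h⁻¹ : K) : G) * (e y : G) = (h : G) * ((k : G) * y) * (h : G)⁻¹ := by
        simp only [e, Equiv.coe_fn_mk]
        push_cast
        group
      rw [h3]
      have h4 : IsConj ((k : G) * y) ((h : G) * ((k : G) * y) * (h : G)⁻¹) :=
        isConj_iff.2 ⟨h, rfl⟩
      have h5 : IsConj g ((h : G) * ((k : G) * y) * (h : G)⁻¹) ↔ IsConj g ((k : G) * y) :=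
        ⟨fun h6 => h6.trans h4.symm, fun h6 => h6.trans h4⟩
      simp only [h5]
    · rfl
  -- the central character
  have hlin : ∀ g i, lin (χ i : K → ℂ) (β g) / (χ i : K → ℂ) 1 =
      (∑ l : L, (∑ y : P, if IsConj g ((l : K) * y) then (1 : ℂ) else 0) *
          (θ : L → ℂ) l) / (θ : L → ℂ) 1 := by
    intro g i
    have h1 := Cfsg.Agent.Blocks.CliffordCentral.sum_div_eq_of_constituent L (χ i) θ (hθ i)
      (fun l => β g l) (fun k l => hβc g l k)
    have h2 : lin (χ i : K → ℂ) (β g) = ∑ l : L, β g l * (χ i : K → ℂ) l := by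
      rw [lin_def]
      rw [← Finset.sum_subset (Finset.subset_univ (Finset.univ.filter (fun k : K => k ∈ L)))]
      · exact Finset.sum_subtype (p := fun k : K => k ∈ L)
          (Finset.univ.filter (fun k : K => k ∈ L)) (by simp) _
      · intro k _ hk
        have hk' : k ∉ L := by simpa using hk
        rw [hβ, if_neg hk', zero_mul]
    rw [h2, h1]
    congr 1
    refine Finset.sum_congr rfl fun l _ => ?_
    rw [hβ, if_pos l.2]
  have hlinR : ∀ g i, MemLocalRing M (lin (χ i : K → ℂ) (β g) / (χ i : K → ℂ) 1) := by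
    intro g i
    rw [div_eq_mul_inv]
    refine memLocalRing_mul ?_ ?_
    · rw [lin_def]
      exact memLocalRing_sum fun k _ => memLocalRing_mul (hβR g k) (memLocalRing_irr (χ i) k)
    · rw [irr_one_eq_charDegree (χ i).2]
      exact memLocalRing_inv_natCast hM (fun h => hKp (h.trans (charDegree_dvd (χ i).2)))
  have hprod : ∀ i j, kel K (fun k => redC M (idem (χ j) k)) *
      kel K (fun k => redC M (idem (χ i) k)) =
      if i = j then kel K (fun k => redC M (idem (χ i) k)) else 0 := by
    intro i j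
    have hl : lin (χ i : K → ℂ) (idem (χ j)) / (χ i : K → ℂ) 1 = if i = j then 1 else 0 := by
      rw [lin_idem]
      by_cases h : i = j
      · rw [if_pos h, if_pos (congrArg χ h), div_self (irr_one_ne_zero (χ i).2)]
      · rw [if_neg h, if_neg (fun h' => h (hχ h')), zero_div]
    have h1 := kel_mul_idem (p := p) hM hKp (z := idem (χ j))
      (Cfsg.Agent.Blocks.BlockIdem.isClassFunction_blockCoeff (G := K) {χ j})
      (memLocalRing_idem hM hKp (χ j)) (χ i) (by
        rw [hl]
        split_ifs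
        · exact memLocalRing_one
        · exact memLocalRing_zero)
    rw [h1, hl]
    split_ifs
    · rw [redC_one, one_smul]
    · rw [redC_zero, zero_smul]
  obtain ⟨n, ρ, hirr, hne, hcen⟩ := exists_reps (F := ResField M) (p := p) (P := P) (K := K) hP hK
    hKP hN (by
      rw [Ne, CharP.cast_eq_zero_iff (ResField M) p]
      exact hKp)
    (A := G) (fun i k => redC M (idem (χ i) k)) (fun i => by rw [hprod, if_pos rfl])
    (fun i => redC_idem_one_ne_zero hM hKp (χ i))
    (fun i j hij k => by
      rw [← kel_comm_el (fun g h => congrArg (redC M)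
          (Cfsg.Agent.Blocks.BlockIdem.isClassFunction_blockCoeff (G := K) {χ i} g h)) k,
        ← mul_assoc, hprod, if_neg hij, zero_mul])
    (fun g x => if IsConj g x then 1 else 0)
    (fun g x y => by
      have h2 : IsConj x (y * x * y⁻¹) := isConj_iff.2 ⟨y, rfl⟩
      have h1 : IsConj g (y * x * y⁻¹) ↔ IsConj g x :=
        ⟨fun k => k.trans h2.symm, fun k => k.trans h2⟩
      simp only [h1])
    (fun g => redC M ((∑ l : L, (∑ y : P, if IsConj g ((l : K) * y) then (1 : ℂ) else 0) *
          (θ : L → ℂ) l) / (θ : L → ℂ) 1))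
    (fun g i => by
      rw [← hlin g i, ← kel_mul_idem hM hKp (hβc g) (hβR g) (χ i) (hlinR g i)]
      congr 2
      funext k
      rw [hβ]
      by_cases hk : k ∈ L
      · rw [if_pos hk, if_pos ((hL k).1 hk), redC_sum fun y _ => by
          split_ifs
          · exact memLocalRing_one
          · exact memLocalRing_zero]
        refine Finset.sum_congr rfl fun y _ => ?_
        split_ifs
        · rw [redC_one]
        · rw [redC_zero]
      · rw [if_neg hk, if_neg (fun h => hk ((hL k).2 h)), redC_zero])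
  exact ⟨n, ρ, hirr, hne, fun i g => hcen i g⟩

end Main

end Cfsg.Agent.H593.D1Idem
end

-- part: H593/D1Lower
section
/-!
# The lower bound for the number of characters in a block with defect group of order `p`
-/

set_option autoImplicit false
set_option linter.unusedSectionVars false
set_option linter.unusedVariables false

namespace Cfsg.Agent.H593.D1Lower

open Cfsg ZMod
open scoped ComplexConjugate
open Cfsg.Agent.Blocks Cfsg.Agent.Blocks.Local
open Cfsg.Agent.Blocks.Basic
open Cfsg.Agent.Blocks.CyclicGroup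
open Cfsg.Agent.Blocks.BlockRank
open Cfsg.Agent.H593.D1Local
open Cfsg.Agent.H593.D1Char
open Cfsg.Agent.H593.D1Sec
open Cfsg.Agent.H593.D1Gram
open Cfsg.Agent.H593.D1Block
open Cfsg.Agent.H593.D1Block2
open Cfsg.Agent.H593.D1Idem (memLocalRing_irr)
open Cfsg.Agent.Characters.Core (isIrr_isCharacter isCharacter_apply_inv isIrr_comp
  isCharacter_comp classInner_irr_self classInner_irr_ne isIrr_iff_classInner_self
  isIrr_isClassFunction finite_irr classFunction_eq_sum isCharacter_mul classInner_isNat)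

universe u

variable {G : Type u} [Group G] [Fintype G] {p : ℕ} [hp : Fact p.Prime] {P K : Subgroup G}
  (h : Loc p P K)

theorem card_filter_eq [DecidableEq G] (g x : G) [Decidable (IsConj g x)] :
    (Finset.univ.filter fun u : G => u * x * u⁻¹ = g).card =
      if IsConj g x then Nat.card (Subgroup.centralizer ({x} : Set G)) else 0 := by
  have := finite_irr (G := G)
  have := Fintype.ofFinite (IrrCharacter G)
  have h1 := sum_irr_mul_conj_eq g x
  rw [Cfsg.Agent.S0145.sum_irr_mul_conj] at h1
  exact_mod_cast h1.symm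

include h in
theorem dvd_card_filter [DecidableEq G] {x : G} (hx : x ∈ P) (l : LL P K) (g : G) :
    p ∣ (Finset.univ.filter fun u : G => u * (x * ((l : K) : G)) * u⁻¹ = g).card := by
  classical
  rw [card_filter_eq]
  split_ifs with h1
  · rw [← h.card]
    apply Subgroup.card_dvd_of_le
    intro y hy
    rw [Subgroup.mem_centralizer_iff]
    intro w hw
    rw [Set.mem_singleton_iff.1 hw]
    have h2 : x * ((l : K) : G) ∈ Subgroup.centralizer (P : Set G) :=
      mul_mem (h.le_centralizer hx) (mem_LL.1 l.2)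
    exact (Subgroup.mem_centralizer_iff.1 h2 y hy).symm
  · exact dvd_zero _

include h in
theorem card_filter_regular [DecidableEq G] {x : G} (hx : x ∈ P) (hx1 : x ≠ 1) (l : LL P K)
    {g : G} (hg : ¬ p ∣ orderOf g) :
    (Finset.univ.filter fun u : G => u * (x * ((l : K) : G)) * u⁻¹ = g).card = 0 := by
  rw [Finset.card_eq_zero, Finset.filter_eq_empty_iff]
  intro u _ hu
  apply hg
  rw [← hu]
  have h1 : orderOf (u * (x * ((l : K) : G)) * u⁻¹) = orderOf (x * ((l : K) : G)) := by
    have h2 := orderOf_injective (MulAut.conj u).toMonoidHom (MulAut.conj u).injective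
      (x * ((l : K) : G))
    rw [← h2]
    rfl
  rw [h1]
  exact h.dvd_orderOf hx hx1 l

/-- The induced central character of an inflated character. -/
theorem induced_eq [Fintype P] [Fintype (LL P K)] (θ : IrrCharacter (LL P K)) (g : G)
    [∀ a b : G, Decidable (IsConj a b)] :
    inducedCentralChar (Subgroup.centralizer (P : Set G))
      (infl h θ : Subgroup.centralizer (P : Set G) → ℂ) g =
    (∑ l : LL P K, (∑ y : P, if IsConj g (((l : K) : G) * y) then (1 : ℂ) else 0) *
      (θ : LL P K → ℂ) l) / (θ : LL P K → ℂ) 1 := by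
  have := Fintype.ofFinite (Subgroup.centralizer (P : Set G))
  rw [Cfsg.Agent.Blocks.CliffordCentral.inducedCentralChar_eq_sum, sum_centralizer h,
    Finset.sum_comm, infl_apply, map_one]
  congr 1
  refine Finset.sum_congr rfl fun l _ => ?_
  rw [Finset.sum_mul]
  refine Finset.sum_congr rfl fun y _ => ?_
  rw [infl_apply, proj_prodEquiv, coe_prodEquiv, (h.comm y.2 (mem_LL.1 l.2)).eq]
  unfold Cfsg.Agent.Blocks.CliffordCentral.classInd
  congr 1
  split_ifs <;> rfl

section block

variable {M : Ideal AlgInt} [hMp : M.IsPrime] (hM : IsPModular p M) {B : Set (IrrCharacter G)}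
  (hB : IsPBlock M B) {θ : IrrCharacter (LL P K)}
  (hind : IsInducedBlock M (Subgroup.centralizer (P : Set G))
      (blockOf M (infl h θ : Subgroup.centralizer (P : Set G) → ℂ)) B)
  {z : G} (hz : orderOf z = p) (hzP : z ∈ P)

include h hM in
theorem not_dvd_card_LL : ¬ p ∣ Nat.card (LL P K) :=
  fun hd => h.cop (hd.trans (Subgroup.card_subgroup_dvd_card _))

include hM hB hind hz hzP

theorem lower [Fintype K] [Fintype (LL P K)] [Fintype B] (ψ : K →* (ZMod p)ˣ)
    (hψ : ∀ (k : K) (m : ZMod p), (k : G) * u z m * (k : G)⁻¹ = u z ((ψ k : ZMod p) * m)) :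
    (LL P K).relIndex (stab h θ) + Nat.card ((ZMod p)ˣ ⧸ (stab h θ).map ψ) ≤ Nat.card B := by
  classical
  have := h.normal
  have := finite_irr (G := G)
  have := Fintype.ofFinite (IrrCharacter G)
  have := Fintype.ofFinite P
  have hmax : M.IsMaximal := isMaximal_of_isPModular hM
  have halg : IsAlgClosed (ResField M) := Cfsg.Agent.Blocks.CyclicAssembly.isAlgClosed_resField
  have hp0 : (p : ℂ) ≠ 0 := Nat.cast_ne_zero.2 hp.out.ne_zero
  have hu1 : ∀ m : ZMod p, m ≠ 0 → u z m ≠ 1 := fun m hm h => hm ((u_eq_one_iff hz).1 h)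
  have huP := u_mem_P h hz hzP
  have hLndvd := not_dvd_card_LL h hM
  have hL0 : (Nat.card (LL P K) : ℂ) ≠ 0 := by exact_mod_cast Nat.card_pos.ne'
  set H := (stab h θ).map ψ with hH
  obtain ⟨χ₀, hχ₀⟩ := isPBlock_nonempty hB
  -- characters of `K` over `θ`
  have hLT : LL P K ≤ stab h θ := fun l hl => cj_of_mem h ⟨l, hl⟩ θ
  obtain ⟨S, hS1, hS2, hS3⟩ := D1Over.exists_over (LL P K) (stab h θ) (θ : LL P K → ℂ) θ.2
    (fun g => by
      rw [mem_stab]
      constructor
      · intro hg l
        rw [← cj_apply h g θ l, hg]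
      · intro hg
        exact Subtype.ext (funext hg)) hLT
    (fun x _ y _ => commutator_mem h hz hzP x y) (isCyclic_quotient h hz hzP (stab h θ))
  obtain ⟨n, ρ, hρ1, hρ2, hρ3⟩ := D1Idem.exists_block_reps (M := M) hM h.card h.le h.inf h.mul
    h.cop (ι := {x // x ∈ S}) (fun i => ⟨i.1, hS1 i.1 i.2⟩)
    (fun i j hij => Subtype.ext (congrArg (fun c : IrrCharacter K => (c : K → ℂ)) hij)) (LL P K)
    (fun k => mem_LL) θ (fun i => by
      have h1 := hS3 i.1 i.2
      rw [← Cfsg.Agent.Characters.Core.classInner_conj_symm] at h1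
      intro h2
      apply h1
      rw [show classInner (fun l : LL P K => i.1 (l : K)) (θ : LL P K → ℂ) = 0 from h2, map_zero])
  -- the functions
  let xω : ((ZMod p)ˣ ⧸ H) → G := fun ω => u z ((ω.out : (ZMod p)ˣ) : ZMod p)
  have hxP : ∀ ω, xω ω ∈ P := fun ω => huP _
  have hx1 : ∀ ω, xω ω ≠ 1 := fun ω => hu1 _ (Units.ne_zero _)
  let f : ((ZMod p)ˣ ⧸ H) → G → ℂ := fun ω g => (p : ℂ)⁻¹ * ∑ χ : B,
    ((χ : IrrCharacter G) : G → ℂ) g *
      conj (DD (θ : LL P K → ℂ) ((χ : IrrCharacter G) : G → ℂ) (xω ω))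
  have hfval : ∀ ω g, f ω g = (p : ℂ)⁻¹ * ((Nat.card (LL P K) : ℂ)⁻¹ * ∑ l : LL P K,
      (θ : LL P K → ℂ) l * ((Finset.univ.filter fun u : G =>
        u * (xω ω * ((l : K) : G)) * u⁻¹ = g).card : ℂ)) := by
    intro ω g
    show (p : ℂ)⁻¹ * _ = _
    rw [sum_block_eq h hM hB hind (hxP ω) (hx1 ω) (fun χ => (χ : G → ℂ) g), sum_DD]
  have hcount : Nat.card {x // x ∈ S} = (LL P K).relIndex (stab h θ) := by
    rw [Nat.card_eq_fintype_card, Fintype.card_coe, hS2]
    rfl
  rw [← hcount]
  refine add_le_card hM hB hχ₀ ρ hρ1 hρ2 ?_ f ?_ ?_ ?_ ?_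
  · intro i g
    have h1 : Central.classSum (ResField M) g =
        ∑ h, MonoidAlgebra.single h (Central.classInd (ResField M) g h) := by
      apply Central.ext_coeff
      intro y
      rw [MonoidAlgebra.coeff_sum, Finsupp.finsetSum_apply]
      simp only [MonoidAlgebra.coeff_single, Finsupp.single_apply]
      rw [Finset.sum_ite_eq']
      simp only [Finset.mem_univ, if_true]
      rfl
    have h2 : ∀ y : G, (ρ i).asAlgebraHom (MonoidAlgebra.single y
        (Central.classInd (ResField M) g y)) =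
          (if IsConj g y then (1 : ResField M) else 0) • ρ i y := by
      intro y
      rw [Representation.asAlgebraHom_single]
      unfold Central.classInd
      congr 1
      split_ifs <;> rfl
    have h3 : redC M (centralChar (χ₀ : G → ℂ) g) = redC M ((∑ l : LL P K,
        (∑ y : P, if IsConj g (((l : K) : G) * y) then (1 : ℂ) else 0) *
        (θ : LL P K → ℂ) l) / (θ : LL P K → ℂ) 1) := by
      rw [← induced_eq h θ g]
      have h4 := hind.2.2 (infl h θ) (mem_blockOf_self _) χ₀ hχ₀ g
      have h5 : MemLocalRing M (centralChar (χ₀ : G → ℂ) g) :=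
        LocalRing.memLocalRing_of_isIntegral hM
          (Cfsg.Agent.Blocks.Central.isIntegral_centralChar χ₀.2 _)
      exact ((redC_eq_iff ((memLocalRing_iff_of_sub h4).2 h5) h5).2 h4).symm
    rw [h3, ← hρ3 i g, h1, map_sum]
    refine Finset.sum_congr rfl fun y _ => ?_
    rw [h2 y]
  · intro ω
    have h1 : f ω = ∑ χ : B, ((p : ℂ)⁻¹ * conj (DD (θ : LL P K → ℂ)
        ((χ : IrrCharacter G) : G → ℂ) (xω ω))) • ((χ : IrrCharacter G) : G → ℂ) := by
      funext g
      rw [Finset.sum_apply]
      show (p : ℂ)⁻¹ * _ = _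
      rw [Finset.mul_sum]
      refine Finset.sum_congr rfl fun χ _ => ?_
      rw [Pi.smul_apply, smul_eq_mul]
      ring
    rw [h1]
    refine Submodule.sum_mem _ fun χ _ => Submodule.smul_mem _ _ (Submodule.subset_span ?_)
    exact ⟨χ, χ.2, rfl⟩
  · intro ω g
    rw [hfval, mul_left_comm, Finset.mul_sum]
    refine memLocalRing_mul (memLocalRing_inv_natCast hM hLndvd) (memLocalRing_sum fun l _ => ?_)
    obtain ⟨c, hc⟩ := dvd_card_filter h (hxP ω) l g
    rw [hc]
    push_cast
    have h1 : (p : ℂ)⁻¹ * ((θ : LL P K → ℂ) l * (p * c)) = (θ : LL P K → ℂ) l * c := by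
      field_simp
    rw [h1]
    exact memLocalRing_mul (memLocalRing_irr θ l) (memLocalRing_natCast c)
  · intro ω g hg
    rw [hfval, Finset.sum_eq_zero, mul_zero, mul_zero, redC_zero]
    intro l _
    rw [card_filter_regular h (hxP ω) (hx1 ω) l hg, Nat.cast_zero, mul_zero]
  · have := Fintype.ofFinite ((ZMod p)ˣ ⧸ H)
    have hfR : ∀ ω g, MemLocalRing M (f ω g) := by
      intro ω g
      rw [hfval, mul_left_comm, Finset.mul_sum]
      refine memLocalRing_mul (memLocalRing_inv_natCast hM hLndvd)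
        (memLocalRing_sum fun l _ => ?_)
      obtain ⟨c, hc⟩ := dvd_card_filter h (hxP ω) l g
      rw [hc]
      push_cast
      have h1 : (p : ℂ)⁻¹ * ((θ : LL P K → ℂ) l * (p * c)) = (θ : LL P K → ℂ) l * c := by
        field_simp
      rw [h1]
      exact memLocalRing_mul (memLocalRing_irr θ l) (memLocalRing_natCast c)
    have hwR : ∀ l : LL P K, MemLocalRing M
        ((Nat.card (LL P K) : ℂ)⁻¹ * conj ((θ : LL P K → ℂ) l)) := by
      intro l
      rw [← isCharacter_apply_inv (isIrr_isCharacter θ.2)]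
      exact memLocalRing_mul (memLocalRing_inv_natCast hM hLndvd) (memLocalRing_irr θ _)
    have hpair : ∀ ω ω' : (ZMod p)ˣ ⧸ H,
        ∑ l : LL P K, ((Nat.card (LL P K) : ℂ)⁻¹ * conj ((θ : LL P K → ℂ) l)) *
          f ω (xω ω' * ((l : K) : G)) = if ω = ω' then 1 else 0 := by
      intro ω ω'
      have h1 : ∑ l : LL P K, ((Nat.card (LL P K) : ℂ)⁻¹ * conj ((θ : LL P K → ℂ) l)) *
          f ω (xω ω' * ((l : K) : G)) = (p : ℂ)⁻¹ * ∑ χ : B,
          DD (θ : LL P K → ℂ) ((χ : IrrCharacter G) : G → ℂ) (xω ω') *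
          conj (DD (θ : LL P K → ℂ) ((χ : IrrCharacter G) : G → ℂ) (xω ω)) := by
        have h2 : ∀ χ : B, DD (θ : LL P K → ℂ) ((χ : IrrCharacter G) : G → ℂ) (xω ω') *
          conj (DD (θ : LL P K → ℂ) ((χ : IrrCharacter G) : G → ℂ) (xω ω)) =
          ∑ l : LL P K, ((Nat.card (LL P K) : ℂ)⁻¹ * conj ((θ : LL P K → ℂ) l)) *
            (((χ : IrrCharacter G) : G → ℂ) (xω ω' * ((l : K) : G)) *
          conj (DD (θ : LL P K → ℂ) ((χ : IrrCharacter G) : G → ℂ) (xω ω))) := by
          intro χ
          rw [DD_def _ _ (xω ω'), mul_assoc, Finset.sum_mul, Finset.mul_sum]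
          exact Finset.sum_congr rfl fun l _ => by ring
        rw [Finset.sum_congr rfl fun χ _ => h2 χ, Finset.sum_comm, Finset.mul_sum]
        refine Finset.sum_congr rfl fun l _ => ?_
        rw [← Finset.mul_sum]
        show _ * ((p : ℂ)⁻¹ * _) = _
        ring
      rw [h1]
      by_cases hω : ω = ω'
      · subst hω
        rw [if_pos rfl, gramB_eq h hM hB hind (hxP ω) (hx1 ω) (hxP ω)
          ⟨1, cj_one h θ, by simp⟩, inv_mul_cancel₀ hp0]
      · rw [if_neg hω, gramB_ne h hM hB hind (hxP ω) (hx1 ω) (hxP ω'), mul_zero]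
        intro hk
        obtain ⟨c, hc, hc2⟩ := (rel_iff h hz hzP hψ (stab h θ)
          ((ω.out : (ZMod p)ˣ) : ZMod p) ((ω'.out : (ZMod p)ˣ) : ZMod p)).1 hk
        apply hω
        rw [← QuotientGroup.out_eq' ω, ← QuotientGroup.out_eq' ω']
        rw [← Units.val_mul, Units.val_inj] at hc2
        rw [hc2]
        refine QuotientGroup.eq.2 ?_
        rw [mul_comm c, inv_mul_cancel_left]
        exact hc
    rw [Fintype.linearIndependent_iff]
    intro a ha ω'
    have h1 : ∀ l : LL P K, ∑ ω, a ω * redC M (f ω (xω ω' * ((l : K) : G))) = 0 := by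
      intro l
      have h2 := congrFun ha (xω ω' * ((l : K) : G))
      rw [Finset.sum_apply] at h2
      exact h2
    have h2 : ∑ l : LL P K, redC M ((Nat.card (LL P K) : ℂ)⁻¹ * conj ((θ : LL P K → ℂ) l)) *
        ∑ ω, a ω * redC M (f ω (xω ω' * ((l : K) : G))) = 0 := by
      refine Finset.sum_eq_zero fun l _ => ?_
      rw [h1, mul_zero]
    have h3 : ∑ l : LL P K, redC M ((Nat.card (LL P K) : ℂ)⁻¹ * conj ((θ : LL P K → ℂ) l)) *
        ∑ ω, a ω * redC M (f ω (xω ω' * ((l : K) : G))) = ∑ ω, a ω *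
        redC M (if ω = ω' then 1 else 0) := by
      rw [Finset.sum_congr rfl fun l _ => Finset.mul_sum _ _ _, Finset.sum_comm]
      refine Finset.sum_congr rfl fun ω _ => ?_
      rw [← hpair ω ω', redC_sum fun l _ => memLocalRing_mul (hwR l) (hfR _ _), Finset.mul_sum]
      refine Finset.sum_congr rfl fun l _ => ?_
      rw [redC_mul (hwR l) (hfR _ _)]
      ring
    rw [h2] at h3
    have h4 : ∀ ω, a ω * redC M (if ω = ω' then 1 else 0) = if ω = ω' then a ω else 0 := by
      intro ω
      split_ifs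
      · rw [redC_one, mul_one]
      · rw [redC_zero, mul_zero]
    rw [Finset.sum_congr rfl fun ω _ => h4 ω, Finset.sum_ite_eq', if_pos (Finset.mem_univ _)] at h3
    exact h3.symm

end block

end Cfsg.Agent.H593.D1Lower
end
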